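import Groth.Agent.Lib.Euler.Rank
import Groth.Agent.Lib.FinCov.FrameFree

/-!
# Rank of a bundle on a connected scheme
-/

set_option autoImplicit false
set_option backward.isDefEq.respectTransparency false
set_option linter.style.haveILetI false

universe u

open CategoryTheory AlgebraicGeometry TopologicalSpace
open GrothLib.FinCov (IsFrame)

namespace GrothLib.ModelK

variable {X : Scheme.{u}}

theorem exists_rank_connected [ConnectedSpace X] {E : X.Modules} (hE : FlatMod.IsFinLocFree E) :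
    ∃ r : ℕ, FlatMod.IsFinLocFreeOfRank r E := by
  let S : ℕ → Set X := fun n => {x | ∃ (U : X.Opens) (e : Fin n → Γ(E, U)), x ∈ U ∧ IsFrame E U e}
  have huniq : ∀ {x : X} {m n : ℕ}, x ∈ S m → x ∈ S n → m = n := by
    rintro x m n ⟨U, e, hxU, he⟩ ⟨V, d, hxV, hd⟩
    obtain ⟨b⟩ := Euler.stalk_basis_of_frame he hxU
    obtain ⟨c⟩ := Euler.stalk_basis_of_frame hd hxV
    simpa using Fintype.card_congr (b.indexEquiv c)
  have hopen : ∀ n, IsOpen (S n) := fun n => isOpen_iff_forall_mem_open.2 fun x ⟨U, e, hx, he⟩ =>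
    ⟨U, fun y hy => ⟨U, e, hy, he⟩, U.isOpen, hx⟩
  obtain ⟨x₀⟩ := (inferInstance : Nonempty X)
  obtain ⟨U, r, e, hx, he⟩ := FinCov.exists_frame_nhd hE x₀
  have huniv : S r = Set.univ := by
    refine (isClopen_iff.1 ⟨⟨?_⟩, hopen r⟩).resolve_left (Set.nonempty_iff_ne_empty.1 ⟨x₀, U, e, hx, he⟩)
    rw [show (S r)ᶜ = ⋃ n ∈ ({r}ᶜ : Set ℕ), S n from Set.ext fun y => by
      simp only [Set.mem_compl_iff, Set.mem_iUnion, Set.mem_singleton_iff]
      constructor
      · intro hy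
        obtain ⟨V, n, d, hyV, hd⟩ := FinCov.exists_frame_nhd hE y
        exact ⟨n, fun h => hy (h ▸ ⟨V, d, hyV, hd⟩), V, d, hyV, hd⟩
      · rintro ⟨n, hn, hyn⟩ hyr
        exact hn (huniq hyn hyr)]
    exact isOpen_biUnion fun n _ => hopen n
  refine ⟨r, fun x => ?_⟩
  obtain ⟨V, d, hxV, hd⟩ : x ∈ S r := huniv ▸ Set.mem_univ x
  exact ⟨V, hxV, FinCov.exists_iso_of_frame hd⟩

end GrothLib.ModelK
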