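import Groth.Agent.Lib.ExtPowX.SesSheaf
import Groth.Agent.Lib.ExtPowX.Pullback
import Groth.Agent.Lib.ModelK.Rank
import Groth.Agent.Lib.K0Sub.ProjPush
import Groth.Agent.Lib.K0Sub.RankNilp
import Groth.Agent.Lib.GrTilde.Mul
import Groth.Agent.Lib.OX.TensorAssoc
import Groth.Agent.Lib.Kodaira.Cones
import Groth.Agent.Lib.Ref1.Tensor
import Groth.Prelude.Def_KRR

/-!
# The λ-ring of bundles
-/

set_option autoImplicit false
set_option backward.isDefEq.respectTransparency false
set_option linter.style.haveILetI false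

universe u

open CategoryTheory CategoryTheory.Limits AlgebraicGeometry TopologicalSpace Opposite LambdaRing
open GrothLib.FinCov (IsFrame)

noncomputable section

namespace GrothLib.ModelK

variable {X : Scheme.{u}}

/-! ### Low exterior powers -/

theorem isExtPow_zero (E : X.Modules) : ExtPow.IsExtPow 0 E (Coh.structureModule X) := by
  let φ : ∀ U : X.affineOpens, Γ(Coh.structureModule X, U.1) ≃ₗ[Γ(X, U.1)] ↥(⋀[Γ(X, U.1)]^0 Γ(E, U.1)) := fun U =>
    LinearEquiv.trans
      (show Γ(Coh.structureModule X, U.1) ≃ₗ[Γ(X, U.1)] Γ(X, U.1) from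
        { toFun := fun x => x, invFun := fun x => x, map_add' := fun _ _ => rfl, map_smul' := fun _ _ => rfl,
          left_inv := fun _ => rfl, right_inv := fun _ => rfl })
      (exteriorPower.zeroEquiv Γ(X, U.1) Γ(E, U.1)).symm
  refine ⟨φ, fun U V h e => ?_⟩
  have key : ∀ (W : X.affineOpens) (v : Fin 0 → Γ(E, W.1)),
      (φ W).symm (exteriorPower.ιMulti _ 0 v) = (1 : Γ(X, W.1)) := fun W v => by
    show (exteriorPower.zeroEquiv Γ(X, W.1) Γ(E, W.1)).symm.symm (exteriorPower.ιMulti _ 0 v) = _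
    rw [LinearEquiv.symm_symm, exteriorPower.zeroEquiv_ιMulti]
  refine ((congrArg _ (key U e)).trans ?_).trans (key V _).symm
  exact map_one (X.presheaf.map (homOfLE h).op).hom

theorem isExtPow_one (E : X.Modules) : ExtPow.IsExtPow 1 E E := by
  let φ : ∀ U : X.affineOpens, Γ(E, U.1) ≃ₗ[Γ(X, U.1)] ↥(⋀[Γ(X, U.1)]^1 Γ(E, U.1)) := fun U =>
    (exteriorPower.oneEquiv Γ(X, U.1) Γ(E, U.1)).symm
  refine ⟨φ, fun U V h e => ?_⟩
  have key : ∀ (W : X.affineOpens) (v : Fin 1 → Γ(E, W.1)),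
      (φ W).symm (exteriorPower.ιMulti _ 1 v) = v 0 := fun W v => by
    show (exteriorPower.oneEquiv Γ(X, W.1) Γ(E, W.1)).symm.symm (exteriorPower.ιMulti _ 1 v) = _
    rw [LinearEquiv.symm_symm, exteriorPower.oneEquiv_ιMulti]
  refine ((congrArg _ (key U e)).trans rfl).trans ?_
  exact (key V (fun j => ConcreteCategory.hom (E.val.map (homOfLE h).op) (e j))).symm

/-! ### The product -/

theorem cl_congr' {M N : X.Modules} (hM : FlatMod.IsFinLocFree M) (e : M ≅ N) : KRR.cl X M = KRR.cl X N :=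
  RegSheaf.clSub_iso (fun _ hZ => DCoh.isFinLocFree_of_isZero hZ) e hM (DCoh.isFinLocFree_of_iso e hM)

theorem isFinLocFree_tensorMod {A B : X.Modules} (hA : FlatMod.IsFinLocFree A) (hB : FlatMod.IsFinLocFree B) :
    FlatMod.IsFinLocFree (CohB1.tensorMod A B) := OX.isFinLocFree_tensor hA hB

theorem isFinLocFree_structure : FlatMod.IsFinLocFree (Coh.structureModule X) :=
  Euler.isFinLocFree_of_isInvertible Euler.isInvertible_structure

variable (X) in
theorem exists_mul : ∃ m : SGA6.Kvb X →+ SGA6.Kvb X →+ SGA6.Kvb X, ∀ E F : X.Modules, FlatMod.IsFinLocFree E →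
    FlatMod.IsFinLocFree F → m (KRR.cl X E) (KRR.cl X F) = KRR.cl X (CohB1.tensorMod E F) := by
  have hθ : ∀ E : X.Modules, FlatMod.IsFinLocFree E → ∃ θ : SGA6.Kvb X →+ SGA6.Kvb X,
      ∀ F : X.Modules, FlatMod.IsFinLocFree F → θ (KRR.cl X F) = KRR.cl X (CohB1.tensorMod E F) := fun E hE => by
    obtain ⟨θ, hθ⟩ := K0Sub.exists_tensor E hE
    exact ⟨θ, fun F hF => (hθ F hF).trans
      (cl_congr' (isFinLocFree_tensorMod hF hE) (GrTilde.tensorModComm F E))⟩
  classical
  let φ : X.Modules → (SGA6.Kvb X →+ SGA6.Kvb X) := fun E =>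
    if hE : FlatMod.IsFinLocFree E then (hθ E hE).choose else 0
  have hφ : ∀ E F : X.Modules, FlatMod.IsFinLocFree E → FlatMod.IsFinLocFree F →
      φ E (KRR.cl X F) = KRR.cl X (CohB1.tensorMod E F) := fun E F hE hF => by
    simp only [φ, dif_pos hE]
    exact (hθ E hE).choose_spec F hF
  obtain ⟨m, hm⟩ := K0Sub.exists_lift (P := KRR.vbP X) φ fun S hS h₁ h₂ h₃ =>
    K0Sub.hom_ext (P := KRR.vbP X) fun F hF => by
      show φ S.X₂ (KRR.cl X F) = φ S.X₁ (KRR.cl X F) + φ S.X₃ (KRR.cl X F)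
      rw [hφ _ _ h₁ hF, hφ _ _ h₂ hF, hφ _ _ h₃ hF]
      exact K0Sub.clSub_add (P := KRR.vbP X) (S := S.map ((DCoh.tensorBi (X := X)).flip.obj F))
        (OX.tensor_map_shortExact (OX.flat_of_isFinLocFree hF) hS)
        (OX.isFinLocFree_tensor h₁ hF) (OX.isFinLocFree_tensor h₂ hF) (OX.isFinLocFree_tensor h₃ hF)
  refine ⟨m, fun E F hE hF => ?_⟩
  rw [show m (KRR.cl X E) = φ E from hm E hE]
  exact hφ E F hE hF

variable (X) in
/-- The product on classes. -/
def mulK : SGA6.Kvb X →+ SGA6.Kvb X →+ SGA6.Kvb X := (exists_mul X).choose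

theorem mulK_cl {E F : X.Modules} (hE : FlatMod.IsFinLocFree E) (hF : FlatMod.IsFinLocFree F) :
    mulK X (KRR.cl X E) (KRR.cl X F) = KRR.cl X (CohB1.tensorMod E F) := (exists_mul X).choose_spec E F hE hF

theorem mulK_comm (a b : SGA6.Kvb X) : mulK X a b = mulK X b a := by
  refine DFunLike.congr_fun (DFunLike.congr_fun (f := mulK X) (g := (mulK X).flip)
    (K0Sub.hom_ext (P := KRR.vbP X) fun E hE => K0Sub.hom_ext (P := KRR.vbP X) fun F hF => ?_) a) b
  show mulK X (KRR.cl X E) (KRR.cl X F) = mulK X (KRR.cl X F) (KRR.cl X E)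
  rw [mulK_cl hE hF, mulK_cl hF hE]
  exact cl_congr' (isFinLocFree_tensorMod hE hF) (GrTilde.tensorModComm E F)

theorem one_mulK (b : SGA6.Kvb X) : mulK X (KRR.cl X (Coh.structureModule X)) b = b := by
  refine DFunLike.congr_fun (g := AddMonoidHom.id _) (K0Sub.hom_ext (P := KRR.vbP X) fun F hF => ?_) b
  show mulK X _ (KRR.cl X F) = KRR.cl X F
  rw [mulK_cl isFinLocFree_structure hF]
  exact cl_congr' (isFinLocFree_tensorMod isFinLocFree_structure hF) (OX.tensorUnitLeftIso F)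

theorem mulK_assoc (a b c : SGA6.Kvb X) : mulK X (mulK X a b) c = mulK X a (mulK X b c) := by
  have key : ∀ A B C : X.Modules, FlatMod.IsFinLocFree A → FlatMod.IsFinLocFree B → FlatMod.IsFinLocFree C →
      mulK X (mulK X (KRR.cl X A) (KRR.cl X B)) (KRR.cl X C) =
        mulK X (KRR.cl X A) (mulK X (KRR.cl X B) (KRR.cl X C)) := fun A B C hA hB hC => by
    rw [mulK_cl hA hB, mulK_cl (isFinLocFree_tensorMod hA hB) hC, mulK_cl hB hC,
      mulK_cl hA (isFinLocFree_tensorMod hB hC)]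
    exact cl_congr' (isFinLocFree_tensorMod (isFinLocFree_tensorMod hA hB) hC) (OX.tensorAssoc A B C)
  have h1 : ∀ A B : X.Modules, FlatMod.IsFinLocFree A → FlatMod.IsFinLocFree B → ∀ c,
      mulK X (mulK X (KRR.cl X A) (KRR.cl X B)) c = mulK X (KRR.cl X A) (mulK X (KRR.cl X B) c) := fun A B hA hB c =>
    DFunLike.congr_fun (g := (mulK X (KRR.cl X A)).comp (mulK X (KRR.cl X B)))
      (K0Sub.hom_ext (P := KRR.vbP X) fun C hC => key A B C hA hB hC) c
  have h2 : ∀ A : X.Modules, FlatMod.IsFinLocFree A → ∀ b c,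
      mulK X (mulK X (KRR.cl X A) b) c = mulK X (KRR.cl X A) (mulK X b c) := fun A hA b c =>
    DFunLike.congr_fun (f := ((mulK X).flip c).comp (mulK X (KRR.cl X A)))
      (g := (mulK X (KRR.cl X A)).comp ((mulK X).flip c))
      (K0Sub.hom_ext (P := KRR.vbP X) fun B hB => h1 A B hA hB c) b
  exact DFunLike.congr_fun (f := ((mulK X).flip c).comp ((mulK X).flip b)) (g := (mulK X).flip (mulK X b c))
    (K0Sub.hom_ext (P := KRR.vbP X) fun A hA => h2 A hA b c) a

variable (X) in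
/-- The ring structure. -/
@[instance_reducible] def kRing : CommRing (SGA6.Kvb X) where
  __ := (inferInstance : AddCommGroup (SGA6.Kvb X))
  mul a b := mulK X a b
  left_distrib a b c := map_add (mulK X a) b c
  right_distrib a b c := DFunLike.congr_fun (map_add (mulK X) a b) c
  zero_mul a := DFunLike.congr_fun (map_zero (mulK X)) a
  mul_zero a := map_zero (mulK X a)
  mul_assoc := mulK_assoc
  one := KRR.cl X (Coh.structureModule X)
  one_mul := one_mulK
  mul_one a := (mulK_comm a _).trans (one_mulK a)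
  mul_comm := mulK_comm

attribute [local instance] kRing

theorem cl_mul {E F : X.Modules} (hE : FlatMod.IsFinLocFree E) (hF : FlatMod.IsFinLocFree F) :
    KRR.cl X E * KRR.cl X F = KRR.cl X (CohB1.tensorMod E F) := mulK_cl hE hF

/-! ### The operations -/

variable (X) in
theorem exists_series : ∃ S : SGA6.Kvb X →+ Additive (PowerSeries (SGA6.Kvb X))ˣ, ∀ E : X.Modules,
    FlatMod.IsFinLocFree E →
      ((Additive.toMul (S (KRR.cl X E)) : (PowerSeries (SGA6.Kvb X))ˣ) : PowerSeries (SGA6.Kvb X)) =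
        PowerSeries.mk fun k => KRR.cl X (ExtPowX.wedge E k) := by
  classical
  have hu : ∀ E : X.Modules, FlatMod.IsFinLocFree E →
      IsUnit (PowerSeries.mk fun k => KRR.cl X (ExtPowX.wedge E k)) := fun E hE => by
    rw [PowerSeries.isUnit_iff_constantCoeff, ← PowerSeries.coeff_zero_eq_constantCoeff_apply, PowerSeries.coeff_mk]
    obtain ⟨e⟩ := ExtPowX.nonempty_iso (ExtPowX.isExtPow_wedge hE 0) (isExtPow_zero E) (Iso.refl _)
    rw [cl_congr' (ExtPowX.isFinLocFree_wedge hE 0) e]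
    exact isUnit_one
  let φ : X.Modules → Additive (PowerSeries (SGA6.Kvb X))ˣ := fun E =>
    if hE : FlatMod.IsFinLocFree E then Additive.ofMul (hu E hE).unit else 0
  have hφ : ∀ E : X.Modules, FlatMod.IsFinLocFree E →
      ((Additive.toMul (φ E) : (PowerSeries (SGA6.Kvb X))ˣ) : PowerSeries (SGA6.Kvb X)) =
        PowerSeries.mk fun k => KRR.cl X (ExtPowX.wedge E k) := fun E hE => by
    simp [φ, dif_pos hE]
  obtain ⟨S, hS⟩ := K0Sub.exists_lift (P := KRR.vbP X) φ fun S hS h₁ h₂ h₃ => by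
    apply Additive.toMul.injective
    rw [toMul_add]
    refine Units.ext ?_
    rw [Units.val_mul, hφ _ h₁, hφ _ h₂, hφ _ h₃]
    ext k
    rw [PowerSeries.coeff_mk, PowerSeries.coeff_mul, Finset.Nat.sum_antidiagonal_eq_sum_range_succ_mk]
    refine (ExtPowX.Ses.cl_wedge S hS h₁ h₂ h₃ k).trans (Finset.sum_congr rfl fun i _ => ?_)
    rw [PowerSeries.coeff_mk, PowerSeries.coeff_mk]
    exact (cl_mul (ExtPowX.isFinLocFree_wedge h₁ i) (ExtPowX.isFinLocFree_wedge h₃ (k - i))).symm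
  exact ⟨S, fun E hE => by rw [show S (KRR.cl X E) = φ E from hS E hE]; exact hφ E hE⟩

variable (X) in
/-- The total exterior power. -/
def seriesK (x : SGA6.Kvb X) : PowerSeries (SGA6.Kvb X) :=
  ((Additive.toMul ((exists_series X).choose x) : (PowerSeries (SGA6.Kvb X))ˣ) : PowerSeries (SGA6.Kvb X))

theorem seriesK_cl {E : X.Modules} (hE : FlatMod.IsFinLocFree E) :
    seriesK X (KRR.cl X E) = PowerSeries.mk fun k => KRR.cl X (ExtPowX.wedge E k) :=
  (exists_series X).choose_spec E hE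

theorem seriesK_add (x y : SGA6.Kvb X) : seriesK X (x + y) = seriesK X x * seriesK X y := by
  simp [seriesK, map_add]

theorem constantCoeff_seriesK (x : SGA6.Kvb X) : PowerSeries.constantCoeff (seriesK X x) = 1 := by
  have h : ((Units.map ((PowerSeries.constantCoeff (R := SGA6.Kvb X))).toMonoidHom).toAdditive).comp
      (exists_series X).choose = 0 := by
    refine K0Sub.hom_ext (P := KRR.vbP X) fun E hE => ?_
    apply Additive.toMul.injective
    refine Units.ext ?_
    show PowerSeries.constantCoeff (seriesK X (KRR.cl X E)) = 1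
    rw [seriesK_cl hE, ← PowerSeries.coeff_zero_eq_constantCoeff_apply, PowerSeries.coeff_mk]
    obtain ⟨e⟩ := ExtPowX.nonempty_iso (ExtPowX.isExtPow_wedge hE 0) (isExtPow_zero E) (Iso.refl _)
    exact cl_congr' (ExtPowX.isFinLocFree_wedge hE 0) e
  exact congrArg (fun u : Additive (SGA6.Kvb X)ˣ => ((Additive.toMul u : (SGA6.Kvb X)ˣ) : SGA6.Kvb X))
    (DFunLike.congr_fun h x)

theorem coeff_one_seriesK (x : SGA6.Kvb X) : PowerSeries.coeff 1 (seriesK X x) = x := by
  have hadd : ∀ a b, PowerSeries.coeff 1 (seriesK X (a + b)) =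
      PowerSeries.coeff 1 (seriesK X a) + PowerSeries.coeff 1 (seriesK X b) := fun a b => by
    rw [seriesK_add, PowerSeries.coeff_mul, Finset.Nat.sum_antidiagonal_eq_sum_range_succ_mk,
      Finset.sum_range_succ, Finset.sum_range_one]
    simp [PowerSeries.coeff_zero_eq_constantCoeff_apply, constantCoeff_seriesK, add_comm]
  refine DFunLike.congr_fun (f := AddMonoidHom.mk' (fun a => PowerSeries.coeff 1 (seriesK X a)) hadd)
    (g := AddMonoidHom.id _) (K0Sub.hom_ext (P := KRR.vbP X) fun E hE => ?_) x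
  show PowerSeries.coeff 1 (seriesK X (KRR.cl X E)) = KRR.cl X E
  rw [seriesK_cl hE, PowerSeries.coeff_mk]
  obtain ⟨e⟩ := ExtPowX.nonempty_iso (ExtPowX.isExtPow_wedge hE 1) (isExtPow_one E) (Iso.refl _)
  exact cl_congr' (ExtPowX.isFinLocFree_wedge hE 1) e

variable (X) in
/-- The λ-structure. -/
@[instance_reducible] def kLam : @LambdaOps (SGA6.Kvb X) (kRing X) where
  lam i x := PowerSeries.coeff i (seriesK X x)
  lam_zero x := by rw [PowerSeries.coeff_zero_eq_constantCoeff_apply, constantCoeff_seriesK]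
  lam_one := coeff_one_seriesK
  lam_add k x y := by
    rw [seriesK_add, PowerSeries.coeff_mul, Finset.Nat.sum_antidiagonal_eq_sum_range_succ_mk]

attribute [local instance] kLam

theorem lam_cl' {i : ℕ} {E L : X.Modules} (hE : FlatMod.IsFinLocFree E) (hL : ExtPow.IsExtPow i E L) :
    LambdaOps.lam i (KRR.cl X E) = KRR.cl X L := by
  show PowerSeries.coeff i (seriesK X (KRR.cl X E)) = _
  rw [seriesK_cl hE, PowerSeries.coeff_mk]
  obtain ⟨e⟩ := ExtPowX.nonempty_iso (ExtPowX.isExtPow_wedge hE i) hL (Iso.refl _)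
  exact cl_congr' (ExtPowX.isFinLocFree_wedge hE i) e

/-! ### The rank -/

/-- Rank at a point. -/
def rkAt (x : X) (M : X.Modules) : ℕ := Module.finrank (X.presheaf.stalk x) (M.presheaf.stalk x)

theorem rkAt_eq {x : X} {M : X.Modules} {r : ℕ} (h : FlatMod.IsFinLocFreeOfRank r M) : rkAt x M = r := by
  obtain ⟨D, e, hx, he⟩ := FinCov.exists_frame_nhd_of_rank h x
  obtain ⟨b⟩ := Euler.stalk_basis_of_frame he hx
  simpa [rkAt] using Module.finrank_eq_card_basis b

theorem rank_eq_rkAt [ConnectedSpace X] (x : X) {M : X.Modules} (hM : FlatMod.IsFinLocFree M) :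
    FlatMod.IsFinLocFreeOfRank (rkAt x M) M := by
  obtain ⟨r, hr⟩ := exists_rank_connected hM
  rwa [rkAt_eq hr]

theorem rkAt_congr {x : X} {M N : X.Modules} [ConnectedSpace X] (hM : FlatMod.IsFinLocFree M) (e : M ≅ N) :
    rkAt x M = rkAt x N :=
  (rkAt_eq (OX.isFinLocFreeOfRank_of_iso e (rank_eq_rkAt x hM))).symm

theorem rkAt_tensor {x : X} {M N : X.Modules} (hM : FlatMod.IsFinLocFree M) (hN : FlatMod.IsFinLocFree N) :
    rkAt x (CohB1.tensorMod M N) = rkAt x M * rkAt x N := by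
  obtain ⟨D, m, e, hx, he⟩ := FinCov.exists_frame_nhd hM x
  obtain ⟨b⟩ := Euler.stalk_basis_of_frame he hx
  obtain ⟨D', m', e', hx', he'⟩ := FinCov.exists_frame_nhd hN x
  obtain ⟨b'⟩ := Euler.stalk_basis_of_frame he' hx'
  haveI := Module.Free.of_basis b
  haveI := Module.Free.of_basis b'
  exact (Ref1.tensorStalk M N x).finrank_eq.trans (Module.finrank_tensorProduct)

theorem rkAt_add {x : X} (S : ShortComplex X.Modules) (hS : S.ShortExact) (h₁ : FlatMod.IsFinLocFree S.X₁)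
    (h₃ : FlatMod.IsFinLocFree S.X₃) : rkAt x S.X₂ = rkAt x S.X₁ + rkAt x S.X₃ := by
  have h := ((OX.shortExact_iff S).1 hS) x
  have hexact : Function.Exact ((S.map (OX.stalk x)).f.hom) ((S.map (OX.stalk x)).g.hom) :=
    (ShortComplex.ShortExact.moduleCat_exact_iff_function_exact _).1 h.exact
  obtain ⟨D, m, e, hx, he⟩ := FinCov.exists_frame_nhd h₃ x
  obtain ⟨b⟩ := Euler.stalk_basis_of_frame he hx
  obtain ⟨D', m', e', hx', he'⟩ := FinCov.exists_frame_nhd h₁ x
  obtain ⟨b'⟩ := Euler.stalk_basis_of_frame he' hx'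
  let M₁ : ModuleCat (X.presheaf.stalk x) := (S.map (OX.stalk x)).X₁
  let M₃ : ModuleCat (X.presheaf.stalk x) := (S.map (OX.stalk x)).X₃
  have bb : Module.Basis (Fin m) (X.presheaf.stalk x) M₃ := b
  have bb' : Module.Basis (Fin m') (X.presheaf.stalk x) M₁ := b'
  haveI : Module.Free (X.presheaf.stalk x) M₃ := Module.Free.of_basis bb
  haveI : Module.Free (X.presheaf.stalk x) M₁ := Module.Free.of_basis bb'
  haveI : Module.Finite (X.presheaf.stalk x) M₃ := Module.Finite.of_basis bb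
  haveI : Module.Finite (X.presheaf.stalk x) M₁ := Module.Finite.of_basis bb'
  obtain ⟨s, hs⟩ := Module.projective_lifting_property ((S.map (OX.stalk x)).g.hom) (LinearMap.id (M := M₃))
    ((ModuleCat.epi_iff_surjective _).1 h.epi_g)
  let ε := (Function.Exact.splitSurjectiveEquiv hexact ((ModuleCat.mono_iff_injective _).1 h.mono_f)) ⟨s, hs⟩
  exact (ε.1.finrank_eq).trans Module.finrank_prod

variable [ConnectedSpace X]

/-- The rank, additively. -/
theorem exists_rank (x : X) : ∃ ε : SGA6.Kvb X →+ ℤ, ∀ E : X.Modules, FlatMod.IsFinLocFree E →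
    ε (KRR.cl X E) = rkAt x E :=
  K0Sub.exists_lift (P := KRR.vbP X) (fun E => (rkAt x E : ℤ)) fun S hS h₁ _ h₃ => by
    rw [rkAt_add S hS h₁ h₃, Nat.cast_add]

theorem exists_augHom (x : X) : ∃ ε : SGA6.Kvb X →+* ℤ, ∀ E : X.Modules, FlatMod.IsFinLocFree E →
    ε (KRR.cl X E) = rkAt x E := by
  obtain ⟨ε, hε⟩ := exists_rank x
  have h1 : ε (1 : SGA6.Kvb X) = 1 := by
    show ε (KRR.cl X (Coh.structureModule X)) = 1
    rw [hε _ isFinLocFree_structure, rkAt_eq (Euler.isFinLocFreeOfRank_one' Euler.isInvertible_structure), Nat.cast_one]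
  have hm : ∀ a b, ε (a * b) = ε a * ε b := fun a b => by
    have key : ∀ A : X.Modules, FlatMod.IsFinLocFree A → ∀ b, ε (KRR.cl X A * b) = ε (KRR.cl X A) * ε b :=
      fun A hA b => DFunLike.congr_fun (f := ε.comp (AddMonoidHom.mulLeft (KRR.cl X A)))
        (g := (AddMonoidHom.mulLeft (ε (KRR.cl X A))).comp ε) (K0Sub.hom_ext (P := KRR.vbP X) fun B hB => by
          show ε (KRR.cl X A * KRR.cl X B) = ε (KRR.cl X A) * ε (KRR.cl X B)
          rw [cl_mul hA hB, hε _ (isFinLocFree_tensorMod hA hB), hε _ hA, hε _ hB, rkAt_tensor hA hB, Nat.cast_mul]) b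
    exact DFunLike.congr_fun (f := ε.comp (AddMonoidHom.mulRight b))
      (g := (AddMonoidHom.mulRight (ε b)).comp ε) (K0Sub.hom_ext (P := KRR.vbP X) fun A hA => key A hA b) a
  exact ⟨{ toFun := ε, map_one' := h1, map_mul' := hm, map_zero' := map_zero ε, map_add' := map_add ε }, hε⟩

theorem isFinLocFreeOfRank_wedge {E : X.Modules} {r : ℕ} (hE : FlatMod.IsFinLocFreeOfRank r E) (k : ℕ) :
    FlatMod.IsFinLocFreeOfRank (r.choose k) (ExtPowX.wedge E k) := fun p => by
  obtain ⟨U, e, hp, he⟩ := FinCov.exists_frame_nhd_of_rank hE p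
  refine ⟨U, hp, ?_⟩
  have hcard : Fintype.card (Set.powersetCard (Fin r) k) = r.choose k := by
    rw [← Nat.card_eq_fintype_card, Set.powersetCard.card, Nat.card_fin]
  exact hcard ▸ FinCov.exists_iso_of_frame (ExtPowX.isFrame_wedge he k)

theorem cl_biprod {A B : X.Modules} (hA : FlatMod.IsFinLocFree A) (hB : FlatMod.IsFinLocFree B) :
    KRR.cl X (A ⊞ B) = KRR.cl X A + KRR.cl X B :=
  K0Sub.clSub_add (P := KRR.vbP X) (S := ShortComplex.mk (biprod.inl : A ⟶ A ⊞ B) biprod.snd biprod.inl_snd)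
    (ShortComplex.Splitting.ofHasBinaryBiproduct _ _).shortExact hA (DCoh.isFinLocFree_biprod hA hB) hB

theorem exists_posStructure (x : X) : ∃ P : PosStructure (SGA6.Kvb X),
    (∀ (n : ℕ) (E : X.Modules), FlatMod.IsFinLocFreeOfRank n E → P.aug (KRR.cl X E) = n) ∧
    ∀ a, a ∈ P.pos ↔ ∃ (n : ℕ) (E : X.Modules), 1 ≤ n ∧ FlatMod.IsFinLocFreeOfRank n E ∧ KRR.cl X E = a := by
  obtain ⟨ε, hε⟩ := exists_augHom x
  have hlf : ∀ {n : ℕ} {E : X.Modules}, FlatMod.IsFinLocFreeOfRank n E → FlatMod.IsFinLocFree E :=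
    fun h => FinCov.isFinLocFree_of_rank h
  have haug : ∀ (n : ℕ) (E : X.Modules), FlatMod.IsFinLocFreeOfRank n E → ε (KRR.cl X E) = n := fun n E h => by
    rw [hε E (hlf h), rkAt_eq h]
  let pos : Set (SGA6.Kvb X) :=
    {a | ∃ (n : ℕ) (E : X.Modules), 1 ≤ n ∧ FlatMod.IsFinLocFreeOfRank n E ∧ KRR.cl X E = a}
  have hone : (1 : SGA6.Kvb X) ∈ pos :=
    ⟨1, _, le_rfl, Euler.isFinLocFreeOfRank_one' Euler.isInvertible_structure, rfl⟩
  have mk : ∀ {E : X.Modules}, FlatMod.IsFinLocFree E → 1 ≤ ε (KRR.cl X E) → KRR.cl X E ∈ pos := fun {E} hE h1 =>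
    ⟨rkAt x E, E, by rw [hε E hE] at h1; exact_mod_cast h1, rank_eq_rkAt x hE, rfl⟩
  have hadd : ∀ e f, e ∈ pos → f ∈ pos → e + f ∈ pos := by
    rintro _ _ ⟨n, E, hn, hE, rfl⟩ ⟨m, F, hm, hF, rfl⟩
    rw [← cl_biprod (hlf hE) (hlf hF)]
    refine mk (DCoh.isFinLocFree_biprod (hlf hE) (hlf hF)) ?_
    rw [cl_biprod (hlf hE) (hlf hF), map_add, haug n E hE, haug m F hF]
    omega
  refine ⟨{ aug := ε
            aug_surjective := fun z => ⟨(z : SGA6.Kvb X), map_intCast ε z⟩
            pos := pos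
            add_mem := hadd
            mul_mem := ?_, natCast_mem := ?_, exists_sub := ?_, aug_pos := ?_, lam_eq_zero := ?_, isUnit_lam := ?_ },
    haug, fun a => Iff.rfl⟩
  · rintro _ _ ⟨n, E, hn, hE, rfl⟩ ⟨m, F, hm, hF, rfl⟩
    rw [cl_mul (hlf hE) (hlf hF)]
    refine mk (isFinLocFree_tensorMod (hlf hE) (hlf hF)) ?_
    rw [← cl_mul (hlf hE) (hlf hF), map_mul, haug n E hE, haug m F hF]
    exact one_le_mul_of_one_le_of_one_le (by omega) (by omega)
  · intro n hn
    induction n with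
    | zero => omega
    | succ k ih =>
      rcases Nat.eq_zero_or_pos k with rfl | hk
      · simpa using hone
      · rw [Nat.cast_succ]; exact hadd _ _ (ih hk) hone
  · intro a
    have hgen : a ∈ AddSubgroup.closure {b | ∃ E : X.Modules, FlatMod.IsFinLocFree E ∧ KRR.cl X E = b} := by
      have h := K0Sub.hom_ext (P := KRR.vbP X)
        (f := QuotientAddGroup.mk' (AddSubgroup.closure {b | ∃ E : X.Modules, FlatMod.IsFinLocFree E ∧ KRR.cl X E = b}))
        (g := 0) fun E hE => (QuotientAddGroup.eq_zero_iff _).2 (AddSubgroup.subset_closure ⟨E, hE, rfl⟩)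
      exact (QuotientAddGroup.eq_zero_iff a).1 (DFunLike.congr_fun h a)
    obtain ⟨A, B, hA, hB, rfl⟩ : ∃ A B : X.Modules, FlatMod.IsFinLocFree A ∧ FlatMod.IsFinLocFree B ∧
        a = KRR.cl X A - KRR.cl X B := by
      induction hgen using AddSubgroup.closure_induction with
      | mem b hb =>
        obtain ⟨E, hE, rfl⟩ := hb
        have hz := Euler.isZero_freeMod_zero X
        exact ⟨E, _, hE, DCoh.isFinLocFree_of_isZero hz, by
          rw [show KRR.cl X (FlatMod.freeMod X 0) = 0 from K0Sub.clSub_isZero hz, sub_zero]⟩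
      | zero => exact ⟨_, _, isFinLocFree_structure, isFinLocFree_structure, (sub_self _).symm⟩
      | add b c _ _ hb hc =>
        obtain ⟨A, B, hA, hB, rfl⟩ := hb
        obtain ⟨C, D, hC, hD, rfl⟩ := hc
        exact ⟨A ⊞ C, B ⊞ D, DCoh.isFinLocFree_biprod hA hC, DCoh.isFinLocFree_biprod hB hD, by
          rw [cl_biprod hA hC, cl_biprod hB hD]; abel⟩
      | neg b _ hb =>
        obtain ⟨A, B, hA, hB, rfl⟩ := hb
        exact ⟨B, A, hB, hA, neg_sub _ _⟩
    refine ⟨KRR.cl X A + 1, KRR.cl X B + 1, ?_, ?_, by ring⟩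
    · show _ + KRR.cl X (Coh.structureModule X) ∈ pos
      rw [← cl_biprod hA isFinLocFree_structure]
      refine mk (DCoh.isFinLocFree_biprod hA isFinLocFree_structure) ?_
      rw [cl_biprod hA isFinLocFree_structure, map_add, hε A hA, haug 1 _ (Euler.isFinLocFreeOfRank_one' Euler.isInvertible_structure)]
      omega
    · show _ + KRR.cl X (Coh.structureModule X) ∈ pos
      rw [← cl_biprod hB isFinLocFree_structure]
      refine mk (DCoh.isFinLocFree_biprod hB isFinLocFree_structure) ?_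
      rw [cl_biprod hB isFinLocFree_structure, map_add, hε B hB, haug 1 _ (Euler.isFinLocFreeOfRank_one' Euler.isInvertible_structure)]
      omega
  · rintro _ ⟨n, E, hn, hE, rfl⟩
    rw [haug n E hE]; omega
  · rintro _ ⟨n, E, hn, hE, rfl⟩ i hi
    rw [haug n E hE] at hi
    rw [lam_cl' (hlf hE) (ExtPowX.isExtPow_wedge (hlf hE) i)]
    have h0 := isFinLocFreeOfRank_wedge hE i
    rw [Nat.choose_eq_zero_of_lt (by omega)] at h0
    refine K0Sub.clSub_isZero ((IsZero.iff_id_eq_zero _).2 ((OX.eq_zero_iff _).2 fun p => ?_))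
    obtain ⟨D, e, hp, he⟩ := FinCov.exists_frame_nhd_of_rank h0 p
    obtain ⟨b⟩ := Euler.stalk_basis_of_frame he hp
    haveI : Subsingleton ((OX.stalk p).obj (ExtPowX.wedge E i)) := b.repr.toEquiv.subsingleton
    exact ModuleCat.hom_ext (LinearMap.ext fun v => Subsingleton.elim _ _)
  · rintro _ ⟨n, E, hn, hE, rfl⟩
    rw [show ε (KRR.cl X E) = n from haug n E hE, Int.toNat_natCast,
      lam_cl' (hlf hE) (ExtPowX.isExtPow_wedge (hlf hE) n)]
    have h1 := isFinLocFreeOfRank_wedge hE n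
    rw [Nat.choose_self] at h1
    have hinv : PicF.IsInvertible (ExtPowX.wedge E n) := fun y => by
      obtain ⟨U, hy, ⟨φ⟩⟩ := h1 y
      exact ⟨U, hy, ⟨φ ≪≫ coproductUniqueIso fun _ : Fin 1 => Coh.structureModule (↑U)⟩⟩
    obtain ⟨T, hT, ⟨e⟩⟩ := Kodaira.exists_inverse hinv
    refine IsUnit.of_mul_eq_one_right (KRR.cl X T) ?_
    rw [cl_mul (Euler.isFinLocFree_of_isInvertible hT) (Euler.isFinLocFree_of_isInvertible hinv)]
    exact cl_congr' (isFinLocFree_tensorMod (Euler.isFinLocFree_of_isInvertible hT) (Euler.isFinLocFree_of_isInvertible hinv)) e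

end GrothLib.ModelK
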