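import Groth.Agent.Lib.ModelK.GammaPn
import Groth.Agent.Lib.Lambda.AdamsRR.Elementary
import Groth.Agent.Lib.DCoh.LocFree
import Groth.Agent.Lib.K0Sub.RankNilp

/-!
# Adams Riemann–Roch for `P^n_Y → Y`
-/

set_option autoImplicit false
set_option backward.isDefEq.respectTransparency false
set_option linter.style.haveILetI false
set_option maxHeartbeats 1000000

universe v u

open CategoryTheory CategoryTheory.Limits AlgebraicGeometry LambdaRing Finset TensorProduct
open GrothLib.Lambda GrothLib.Lambda.AdamsRR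
open Polynomial (X C)

noncomputable section

attribute [local instance 10000] Ring.toIntAlgebra

namespace GrothLib.ModelK

/-- The remainder of `X^N` modulo a power of `X - 1`. -/
theorem coeff_X_pow_modByMonic {A : Type*} [CommRing A] (n N : ℕ) :
    ((X : Polynomial A) ^ N %ₘ (X - C 1) ^ (n + 1)).coeff n = (N.choose n : A) := by
  nontriviality A
  set p : Polynomial A := X - C 1 with hp
  clear_value p
  have hdeg : ∀ k : ℕ, (p ^ k).degree = (k : WithBot ℕ) := fun k => by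
    rw [hp, Polynomial.degree_pow', Polynomial.degree_X_sub_C, nsmul_one]
    rw [(Polynomial.monic_X_sub_C (1 : A)).leadingCoeff, one_pow]; exact one_ne_zero
  set S : Polynomial A := ∑ k ∈ range (n + 1), (N.choose k : Polynomial A) * p ^ k
  have hS : X ^ N %ₘ p ^ (n + 1) = S := by
    have hsum : (X : Polynomial A) ^ N = ∑ k ∈ range (n + 1 + (N + 1)), (N.choose k : Polynomial A) * p ^ k := by
      rw [show n + 1 + (N + 1) = N + 1 + (n + 1) by omega, sum_range_add _ (N + 1), add_eq_left.2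
        (sum_eq_zero fun k _ => by rw [Nat.choose_eq_zero_of_lt (by omega), Nat.cast_zero, zero_mul])]
      conv_lhs => rw [show (X : Polynomial A) = p + 1 by simp [hp], add_pow]
      exact sum_congr rfl fun k _ => by ring
    refine (Polynomial.div_modByMonic_unique
      (∑ k ∈ range (N + 1), (N.choose (n + 1 + k) : Polynomial A) * p ^ k) S
      (hp ▸ (Polynomial.monic_X_sub_C (1 : A)).pow _) ⟨?_, ?_⟩).2
    · rw [hsum, sum_range_add _ (n + 1) (N + 1), mul_sum]
      exact congrArg (S + ·) (sum_congr rfl fun k _ => by ring)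
    · rw [hdeg]
      refine (Polynomial.degree_sum_le _ _).trans_lt ((Finset.sup_lt_iff (WithBot.bot_lt_coe _)).2 fun k hk => ?_)
      refine (Polynomial.degree_mul_le _ _).trans_lt ?_
      rw [hdeg]
      refine (add_le_add (Polynomial.degree_natCast_le _) le_rfl).trans_lt ?_
      rw [zero_add]
      exact_mod_cast mem_range.1 hk
  rw [hS, Polynomial.finsetSum_coeff, sum_range_succ, sum_eq_zero fun k hk => ?_, zero_add,
    Polynomial.coeff_natCast_mul]
  · have h : (p ^ n).coeff n = 1 := by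
      have := (hp ▸ (Polynomial.monic_X_sub_C (1 : A)).pow n : (p ^ n).Monic).leadingCoeff
      rwa [Polynomial.leadingCoeff, Polynomial.natDegree_eq_of_degree_eq_some (hdeg n)] at this
    rw [h, mul_one]
  · rw [Polynomial.coeff_natCast_mul, Polynomial.coeff_eq_zero_of_degree_lt
      (by rw [hdeg]; exact_mod_cast mem_range.1 hk), mul_zero]

section Model

variable {X₀ : Scheme.{u}} {K : Type v} [CommRing K] [LambdaOps K] {P : PosStructure K}
  {φ : SGA6.Kvb X₀ →+ K} (hK : KRR.IsModel X₀ K P φ)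

include hK

theorem cl_freeMod : ∀ m : ℕ, φ (KRR.cl X₀ (FlatMod.freeMod X₀ m)) = (m : K)
  | 0 => by
    rw [show KRR.cl X₀ (FlatMod.freeMod X₀ 0) = 0 from K0Sub.clSub_isZero (Euler.isZero_freeMod_zero X₀),
      map_zero, Nat.cast_zero]
  | m + 1 => by
    have hf := fun k => FinCov.isFinLocFree_of_rank (K0Sub.isFinLocFreeOfRank_freeMod (X := X₀) k)
    let e : FlatMod.freeMod X₀ m ⊞ FlatMod.freeMod X₀ 1 ≅ FlatMod.freeMod X₀ (m + 1) :=
      DCoh.freeModBiprodIso X₀ m 1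
    have hse : (ShortComplex.mk (biprod.inl : FlatMod.freeMod X₀ m ⟶ _)
        (biprod.snd : _ ⟶ FlatMod.freeMod X₀ 1) biprod.inl_snd).ShortExact :=
      (ShortComplex.Splitting.ofHasBinaryBiproduct _ _).shortExact
    have h1 : φ (KRR.cl X₀ (FlatMod.freeMod X₀ 1)) = 1 := by
      rw [← hK.map_one]
      exact cl_congr hK (hf 1) (coproductUniqueIso (fun _ : Fin 1 => Coh.structureModule X₀))
    have hb := DCoh.isFinLocFree_of_iso e.symm (hf (m + 1))
    rw [cl_congr hK (hf (m + 1)) e.symm, KRR.cl, K0Sub.clSub_add (P := KRR.vbP X₀) hse (hf m) hb (hf 1),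
      map_add, Nat.cast_succ]
    exact congrArg₂ (· + ·) (cl_freeMod m) h1

theorem adams_line_mul {L : X₀.Modules} (hL : FlatMod.IsFinLocFreeOfRank 1 L) (x : K) {j : ℕ} (hj : 1 ≤ j) :
    adams P j (φ (KRR.cl X₀ L) * x) = φ (KRR.cl X₀ L) ^ j * adams P j x := by
  obtain ⟨k, rfl⟩ : ∃ k, j = k + 1 := ⟨j - 1, by omega⟩
  set a := φ (KRR.cl X₀ L) with ha
  rw [adams_succ, adams_succ, adamsOp_eq, adamsOp_eq]
  have hN : Newton (lamSeq (a * x)) (fun i => a ^ i * psiOf (lamSeq x) i) := fun i => by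
    show ((i + 1 : ℕ) : K) * LambdaOps.lam (i + 1) (a * x) = _
    rw [ha, lam_line_mul hK hL, ← ha, mul_left_comm, show ((i + 1 : ℕ) : K) * LambdaOps.lam (i + 1) x = _ from
      newton_psiOf (lamSeq x) (lamSeq_zero' x) i, mul_sum]
    refine sum_congr rfl fun l hl => ?_
    show _ = _ * LambdaOps.lam (i - l) (a * x)
    rw [ha, lam_line_mul hK hL, ← ha, show a ^ (i + 1) = a ^ (l + 1) * a ^ (i - l) by
      rw [← pow_add]; congr 1; have := mem_range.1 hl; omega]
    simp only [lamSeq]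
    ring
  exact (hN.eq_psiOf (lamSeq_zero' _) (k + 1) hj).symm

end Model

variable {n : ℕ} {Y : Scheme.{u}} [AlgebraicGeometry.IsNoetherian Y] {KP KY : Type v} [CommRing KP] [LambdaOps KP] [CommRing KY]
  [LambdaOps KY] {PP : PosStructure KP} {PY : PosStructure KY} {φP : SGA6.Kvb (KRR.PY n Y) →+ KP}
  {φY : SGA6.Kvb Y →+ KY} (hKP : KRR.IsModel (KRR.PY n Y) KP PP φP) (hKY : KRR.IsModel Y KY PY φY)
  {q : KY →+ KP} (hq : KRR.IsPull (KRR.pr n Y) φY φP q)
  {g : KP →+ KY} (hg : KRR.IsPushPr n Y φP φY g)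

include hKP hKY

theorem push_tw_natCast (hg : KRR.IsPushPr n Y φP φY g) (i : ℕ) :
    g (tw n Y φP 1 ^ i) = ((n + i).choose n : KY) := by
  rw [← tw_natCast hKP, ← push_tw hKP hKY hg (n + i)]
  exact congrArg (fun d => g (tw n Y φP d)) (by omega)

include hq

theorem cl_multiplier :
    φP (KRR.cl (KRR.PY n Y) (KRR.twF n Y (-1) ((Scheme.Modules.pullback (KRR.pr n Y)).obj (FlatMod.freeMod Y (n + 1))))) =
      tw n Y φP (-1) * ((n + 1 : ℕ) : KP) := by
  have hf := FinCov.isFinLocFree_of_rank (K0Sub.isFinLocFreeOfRank_freeMod (X := Y) (n + 1))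
  rw [tw_mul_cl hKP _ (OX.isFinLocFree_pullback (KRR.pr n Y) hf), ← hq _ hf, cl_freeMod hKY,
    show q ((n + 1 : ℕ) : KY) = pullHom hKP hKY hq ((n + 1 : ℕ) : KY) from rfl, map_natCast]

omit hKY hq in
theorem bott_multiplier (j : ℕ) :
    KRR.bott PP j (tw n Y φP (-1) * ((n + 1 : ℕ) : KP)) = (∑ x ∈ range j, tw n Y φP (-1) ^ x) ^ (n + 1) := by
  have hL : FlatMod.IsFinLocFreeOfRank 1 (KRR.twF n Y (-1) (Coh.structureModule (KRR.PY n Y))) :=
    OX.isFinLocFreeOfRank_of_iso (RegSheaf.nonempty_twF_structure (-1)).some.symm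
      (Euler.isFinLocFreeOfRank_one' (ProjPic26.isInvertible_twistOver n Y (-1)))
  have haug : (PP.aug (tw n Y φP (-1) * ((n + 1 : ℕ) : KP))).toNat = n + 1 := by
    rw [map_mul, map_natCast, tw, (isLine_cl hKP hL).2, one_mul, Int.toNat_natCast]
  rw [KRR.bott, haug, bottSym_eval j (n + 1) (fun _ => tw n Y φP (-1))
    (fun k => LambdaOps.lam k (tw n Y φP (-1) * ((n + 1 : ℕ) : KP))) fun k _ => ?_]
  · exact Fin.prod_const _ _
  · rw [tw, lam_line_mul hKP hL, lam_natCast (lam_one_eq_zero_of_pos PP), MvPolynomial.esymm, map_sum,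
      sum_congr rfl (g := fun _ => φP (KRR.cl _ (KRR.twF n Y (-1) (Coh.structureModule (KRR.PY n Y)))) ^ (k + 1))
        fun s hs => by rw [map_prod]; simp [(mem_powersetCard.1 hs).2]]
    rw [sum_const, card_powersetCard, card_univ, Fintype.card_fin, nsmul_eq_mul, mul_comm]

include hg

theorem adams_push_of_unit [ConnectedSpace Y] {R : Type} [CommRing R] [Nontrivial R] (j : ℕ) (hj : 1 ≤ j)
    (hjR : IsUnit (j : R)) :
    (∃ w : R ⊗[ℤ] KP, w * ((1 : R) ⊗ₜ[ℤ] KRR.bott PP j (tw n Y φP (-1) * ((n + 1 : ℕ) : KP))) = 1) ∧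
    ∀ w : R ⊗[ℤ] KP, w * ((1 : R) ⊗ₜ[ℤ] KRR.bott PP j (tw n Y φP (-1) * ((n + 1 : ℕ) : KP))) = 1 → ∀ z : KP,
      (1 : R) ⊗ₜ[ℤ] adams PY j (g z) =
        LinearMap.lTensor R g.toIntLinearMap ((j : R ⊗[ℤ] KP) * ((1 : R) ⊗ₜ[ℤ] adams PP j z) * w) := by
  rw [bott_multiplier hKP]
  set ℓ := tw n Y φP 1
  set linv := tw n Y φP (-1)
  let iR : KP →+* R ⊗[ℤ] KP := (Algebra.TensorProduct.includeRight (R := ℤ) (A := R)).toRingHom
  let iL : R →+* R ⊗[ℤ] KP := Algebra.TensorProduct.includeLeftRingHom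
  let Φ : Polynomial R →+* R ⊗[ℤ] KP := Polynomial.eval₂RingHom iL (iR ℓ)
  have hΦX : Φ X = iR ℓ := Polynomial.eval₂_X _ _
  let u : Fin (n + 1) → R := fun _ => 1
  have hN : Φ (nodalP u) = 0 := by
    rw [show nodalP u = (X - C 1) ^ (n + 1) by simp [u, nodalP], map_pow, map_sub, hΦX, Polynomial.coe_eval₂RingHom, Polynomial.eval₂_C, map_one,
      ← map_one iR, ← map_sub, ← map_pow, sub_one_pow_eq_zero hKP, map_zero]
  have hQ : IsUnit (disc j u) := by
    simp only [disc, geomS, u, one_pow, mul_one, prod_const_one, sum_const, card_range, nsmul_one, prod_const]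
    exact hjR.mul ((hjR.pow _).pow _)
  obtain ⟨a, b, hab⟩ := isCoprime_nodalP_theta hQ
  let W : Polynomial R := C (j : R) * X ^ ((n + 1) * (j - 1)) * b
  have hW : nodalP u ∣ W * theta j u - C (j : R) * X ^ ((n + 1) * (j - 1)) :=
    ⟨-(C (j : R) * X ^ ((n + 1) * (j - 1)) * a), by
      linear_combination (C (j : R) * X ^ ((n + 1) * (j - 1))) * hab⟩
  have hθ : Φ (theta j u) = iR ℓ ^ ((n + 1) * (j - 1)) * iR ((∑ x ∈ range j, linv ^ x) ^ (n + 1)) := by
    rw [show theta j u = geomS j (C 1) X ^ (n + 1) by simp [u, theta], map_pow, map_geomS, hΦX, Polynomial.coe_eval₂RingHom, Polynomial.eval₂_C,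
      map_one, mul_comm (n + 1), pow_mul, map_pow, ← mul_pow, ← map_pow iR, ← map_mul, geomS, mul_sum, map_sum]
    congr 1
    refine sum_congr rfl fun x hx => ?_
    rw [one_pow, one_mul, ← map_pow,
      show ℓ ^ (j - 1) * linv ^ x = ℓ ^ (j - 1 - x) * (ℓ ^ x * linv ^ x) by
        rw [← mul_assoc, ← pow_add]; congr 2; have := mem_range.1 hx; omega,
      ← mul_pow, tw_one_mul_neg hKP, one_pow, mul_one]
  have hlu : IsUnit (iR ℓ ^ ((n + 1) * (j - 1))) :=
    ((IsUnit.of_mul_eq_one (b := linv) (tw_one_mul_neg hKP)).map iR).pow _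
  have hWb : Φ W * iR ((∑ x ∈ range j, linv ^ x) ^ (n + 1)) = j := by
    obtain ⟨c, hc⟩ := hW
    have h := congrArg Φ hc
    rw [map_mul Φ (nodalP u), hN, zero_mul, map_sub, sub_eq_zero, map_mul Φ W, hθ, map_mul Φ (C (j : R)),
      map_pow Φ X, hΦX, Polynomial.coe_eval₂RingHom, Polynomial.eval₂_C, map_natCast, mul_left_comm,
      mul_comm _ (iR ℓ ^ _)] at h
    exact hlu.mul_left_cancel h
  refine ⟨?_, fun w hw z => ?_⟩
  · obtain ⟨v, hv⟩ := hjR.map iL
    rw [map_natCast] at hv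
    exact ⟨(↑v⁻¹ : R ⊗[ℤ] KP) * Φ W, by
      rw [mul_assoc]; exact (congrArg _ hWb).trans (by rw [← hv, Units.inv_mul])⟩
  have hjw : (j : R ⊗[ℤ] KP) * w = Φ W := by
    rw [← hWb, mul_assoc, mul_comm (iR _) w]
    exact (congrArg _ hw).trans (mul_one _)
  -- the functional
  let cY : R →+* R ⊗[ℤ] KY := Algebra.TensorProduct.includeLeftRingHom
  have hfun : ∀ G : Polynomial R, LinearMap.lTensor R g.toIntLinearMap (Φ G) =
      cY ((X ^ n * G %ₘ nodalP u).coeff n) := by
    intro G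
    induction G using Polynomial.induction_on' with
    | add G G' h h' => rw [map_add, map_add, h, h', mul_add, Polynomial.add_modByMonic, Polynomial.coeff_add, map_add]
    | monomial i r =>
      have e1 : Φ (Polynomial.monomial i r) = r ⊗ₜ[ℤ] (ℓ ^ i) := by
        rw [Polynomial.coe_eval₂RingHom, Polynomial.eval₂_monomial, ← map_pow]
        simp [iL, iR]
      rw [e1, LinearMap.lTensor_tmul, show nodalP u = (X - C 1) ^ (n + 1) by simp [u, nodalP], ← Polynomial.C_mul_X_pow_eq_monomial,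
        show X ^ n * (C r * X ^ i) = r • (X ^ (n + i) : Polynomial R) by
          rw [Polynomial.smul_eq_C_mul, pow_add]; ring,
        Polynomial.smul_modByMonic, Polynomial.coeff_smul, coeff_X_pow_modByMonic, smul_eq_mul, map_mul, map_natCast]
      show r ⊗ₜ[ℤ] g (ℓ ^ i) = _
      rw [push_tw_natCast hKP hKY hg i, ← map_natCast (Algebra.TensorProduct.includeRight (R := ℤ) (A := R) (B := KY))]
      show r ⊗ₜ[ℤ] ((n + i).choose n : KY) = r ⊗ₜ[ℤ] (1 : KY) * ((1 : R) ⊗ₜ[ℤ] ((n + i).choose n : KY))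
      rw [Algebra.TensorProduct.tmul_mul_tmul, mul_one, one_mul]
  have hlin : ∀ (c : KY) (T : R ⊗[ℤ] KP), LinearMap.lTensor R g.toIntLinearMap (iR (q c) * T) =
      ((1 : R) ⊗ₜ[ℤ] c) * LinearMap.lTensor R g.toIntLinearMap T := by
    intro c T
    induction T using TensorProduct.induction_on with
    | zero => simp
    | tmul r x =>
      show LinearMap.lTensor R g.toIntLinearMap (((1 : R) ⊗ₜ[ℤ] q c) * (r ⊗ₜ[ℤ] x)) = _
      rw [Algebra.TensorProduct.tmul_mul_tmul, LinearMap.lTensor_tmul, LinearMap.lTensor_tmul, one_mul,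
        Algebra.TensorProduct.tmul_mul_tmul, one_mul]
      exact congrArg (r ⊗ₜ[ℤ] ·) (push_mul_q hKP hKY hq hg x c)
    | add s t hs ht => rw [mul_add, map_add, map_add, hs, ht, mul_add]
  -- additive in `z`
  let F₁ : KP →+ R ⊗[ℤ] KY := ((Algebra.TensorProduct.includeRight (R := ℤ) (A := R)).toRingHom.toAddMonoidHom).comp
    ((adamsAddHom PY j).comp g)
  let F₂ : KP →+ R ⊗[ℤ] KY := (LinearMap.lTensor R g.toIntLinearMap).toAddMonoidHom.comp
    ((AddMonoidHom.mulRight w).comp ((AddMonoidHom.mulLeft (j : R ⊗[ℤ] KP)).comp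
      (iR.toAddMonoidHom.comp (adamsAddHom PP j))))
  suffices hz : z ∈ AddMonoidHom.eqLocus F₁ F₂ from hz
  have hmon : ∀ (c : KY) (m : ℕ), q c * ℓ ^ m ∈ AddMonoidHom.eqLocus F₁ F₂ := by
    intro c m
    show (1 : R) ⊗ₜ[ℤ] adams PY j (g (q c * ℓ ^ m)) =
      LinearMap.lTensor R g.toIntLinearMap ((j : R ⊗[ℤ] KP) * ((1 : R) ⊗ₜ[ℤ] adams PP j (q c * ℓ ^ m)) * w)
    have hA : ∀ (m : ℕ) (x : KP), adams PP j (ℓ ^ m * x) = ℓ ^ (j * m) * adams PP j x := by
      intro m
      induction m with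
      | zero => intro x; simp
      | succ m ih =>
        intro x
        rw [pow_succ, mul_assoc, ih, show ℓ = φP (KRR.cl _ (KRR.twF n Y 1 (Coh.structureModule (KRR.PY n Y)))) from rfl,
          adams_line_mul hKP (OX.isFinLocFreeOfRank_of_iso (RegSheaf.nonempty_twF_structure 1).some.symm
            (Euler.isFinLocFreeOfRank_one' (ProjPic26.isInvertible_twistOver n Y 1))) x hj, mul_add, mul_one,
          pow_add, mul_assoc]
    have hqψ : adams PP j (q c) = q (adams PY j c) := by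
      obtain ⟨k, rfl⟩ : ∃ k, j = k + 1 := ⟨j - 1, by omega⟩
      rw [adams_succ, adams_succ]
      exact ((show Commutes (pullHom hKP hKY hq) from fun i x => isLambdaHom_pull hKP hKY hq i x).adamsOp _ c).symm
    rw [mul_comm (q c), hA, hqψ, mul_comm _ (q c), push_mul_q hKP hKY hq hg, push_tw_natCast hKP hKY hg m,
      show (j : R ⊗[ℤ] KP) * ((1 : R) ⊗ₜ[ℤ] (ℓ ^ (j * m) * q (adams PY j c))) * w =
        iR (q (adams PY j c)) * Φ (W * X ^ (j * m)) by
        rw [map_mul, map_pow, hΦX, ← hjw, ← map_pow iR]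
        show (j : R ⊗[ℤ] KP) * iR (ℓ ^ (j * m) * q (adams PY j c)) * w = _
        rw [map_mul]; ring,
      hlin, hfun, ← mul_assoc (X ^ n), identity hj hQ hW m]
    rw [show nodalP (fun k => u k ^ j) = (X - C 1) ^ (n + 1) by simp [u, nodalP], coeff_X_pow_modByMonic, map_natCast]
    rw [mul_comm, ← nsmul_eq_mul, show adams PY j ((n + m).choose n • c) = (n + m).choose n • adams PY j c from
      map_nsmul (adamsAddHom PY j) _ c, tmul_smul, nsmul_eq_mul, mul_comm]
  have hall : ∀ (i m : ℕ) (c : KY), q c * ℓ ^ m * (ℓ - 1) ^ i ∈ AddMonoidHom.eqLocus F₁ F₂ := by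
    intro i
    induction i with
    | zero => intro m c; simpa using hmon c m
    | succ i ih =>
      intro m c
      rw [show q c * ℓ ^ m * (ℓ - 1) ^ (i + 1) = q c * ℓ ^ (m + 1) * (ℓ - 1) ^ i - q c * ℓ ^ m * (ℓ - 1) ^ i by ring]
      exact sub_mem (ih _ _) (ih _ _)
  obtain ⟨α, rfl⟩ := (bijective_coord hKP hKY hq hg).2 z
  show (∑ i : Fin (n + 1), q (α i) * (ℓ - 1) ^ (i : ℕ)) ∈ AddMonoidHom.eqLocus F₁ F₂
  exact sum_mem fun i _ => by simpa using hall i 0 (α i)

theorem adams_push [ConnectedSpace Y] (j : ℕ) (hj : 1 ≤ j) :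
    (∃ w : Localization.Away (j : ℤ) ⊗[ℤ] KP,
      w * ((1 : Localization.Away (j : ℤ)) ⊗ₜ[ℤ] KRR.bott PP j (tw n Y φP (-1) * ((n + 1 : ℕ) : KP))) = 1) ∧
    ∀ w : Localization.Away (j : ℤ) ⊗[ℤ] KP,
      w * ((1 : Localization.Away (j : ℤ)) ⊗ₜ[ℤ] KRR.bott PP j (tw n Y φP (-1) * ((n + 1 : ℕ) : KP))) = 1 → ∀ z : KP,
      (1 : Localization.Away (j : ℤ)) ⊗ₜ[ℤ] adams PY j (g z) =
        LinearMap.lTensor (Localization.Away (j : ℤ)) g.toIntLinearMap
          ((j : Localization.Away (j : ℤ) ⊗[ℤ] KP) * ((1 : Localization.Away (j : ℤ)) ⊗ₜ[ℤ] adams PP j z) * w) := by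
  haveI : IsDomain (Localization.Away (j : ℤ)) :=
    IsLocalization.isDomain_localization (powers_le_nonZeroDivisors_of_noZeroDivisors (by omega : (j : ℤ) ≠ 0))
  exact adams_push_of_unit hKP hKY hq hg j hj (isUnit_natCast_away j)

end GrothLib.ModelK
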