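import Groth.Agent.Lib.ModelK.PBT
import Groth.Agent.Lib.CurveMult.GGCurve
import Groth.Agent.Lib.Ample.Generation
import Groth.Agent.Lib.Ample.FiniteGen
import Groth.Agent.Lib.Ample.Criterion
import Groth.Agent.S3791
import Groth.Agent.Lib.ModelK.AdamsPr

/-!
# Ample line elements and nilpotence of the augmentation ideal
-/

set_option autoImplicit false
set_option backward.isDefEq.respectTransparency false
set_option linter.style.haveILetI false

universe v u

open CategoryTheory CategoryTheory.Limits AlgebraicGeometry LambdaRing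

namespace GrothLib.ModelK

section Alg

variable {K : Type v} [CommRing K] [LambdaOps K] {P : PosStructure K}

theorem gamma_sub_aug_eq_zero {e : K} (he : e ∈ P.pos) {k : ℕ} (hk : (P.aug e).toNat < k) :
    gamma k (e - (P.aug e : K)) = 0 := by
  have h1 := Lambda.lam_one_eq_zero_of_pos P
  have hnn := Int.toNat_of_nonneg (P.aug_pos e he).le
  set r := (P.aug e).toNat with hr
  rw [Lambda.gamma_eq_lam h1, show e - (P.aug e : K) + (k : K) - 1 = e + ((k - r - 1 : ℕ) : K) by
    rw [← hnn, Nat.cast_sub (by omega), Nat.cast_sub hk.le]; push_cast; ring, LambdaOps.lam_add]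
  refine Finset.sum_eq_zero fun i hi => ?_
  rcases le_or_gt i r with hir | hir
  · rw [Lambda.lam_natCast h1, Nat.choose_eq_zero_of_lt (by omega), Nat.cast_zero, mul_zero]
  · rw [P.lam_eq_zero e he i (by omega), zero_mul]

/-- In the presence of an ample line element the augmentation ideal is nil. -/
theorem isNilpotent_of_isAmpleElt {u : K} (hu : KRR.IsAmpleElt P u) {x : K} (hx : P.aug x = 0) :
    IsNilpotent x := by
  suffices key : ∀ a ∈ P.pos, IsNilpotent (a - (P.aug a : K)) by
    obtain ⟨a, b, ha, hb, rfl⟩ := P.exists_sub x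
    rw [map_sub, sub_eq_zero] at hx
    have h := (Commute.all _ _).isNilpotent_sub (key a ha) (key b hb)
    rwa [hx, sub_sub_sub_cancel_right] at h
  intro a ha
  have hline := hu.1
  have hN : IsNilpotent (u - 1) := Groth.Agent.S3791.result K P u hu u hline
  obtain ⟨n₀, hn₀⟩ := hu.2 (-a)
  obtain ⟨e, m, he, hem⟩ := hn₀ (n₀ + 1) (by omega)
  set c := u ^ (n₀ + 1) * a with hc
  have hsum : e + c = (m : K) := by rw [hc]; linear_combination -hem
  have hcpos : c ∈ P.pos := by
    have hpow : ∀ j : ℕ, u ^ (j + 1) ∈ P.pos := fun j => by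
      induction j with
      | zero => simpa using hline.1
      | succ j ih => rw [pow_succ]; exact P.mul_mem _ _ ih hline.1
    exact P.mul_mem _ _ (hpow n₀) ha
  have hca : P.aug c = P.aug a := by rw [hc, map_mul, map_pow, hline.2, one_pow, one_mul]
  have haug : P.aug e + P.aug c = (m : ℤ) := by rw [← map_add, hsum, map_natCast]
  set z := c - (P.aug c : K) with hzdef
  set w := e - (P.aug e : K) with hwdef
  have hzw : z + w = 0 := by
    rw [hzdef, hwdef, show c - (P.aug c : K) + (e - (P.aug e : K)) = (e + c) - ((P.aug e + P.aug c : ℤ) : K) by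
      push_cast; ring, hsum, haug, Int.cast_natCast, sub_self]
  set A := (P.aug c).toNat + (P.aug e).toNat + 2 with hA
  have htr : ∀ y : K, (∀ k, A ≤ k → gamma k y = 0) →
      ((PowerSeries.trunc A (PowerSeries.mk fun k => gamma k y) : Polynomial K) : PowerSeries K) =
        PowerSeries.mk fun k => gamma k y := fun y hy => by
    ext k
    rw [Polynomial.coeff_coe, PowerSeries.coeff_trunc, PowerSeries.coeff_mk]
    split_ifs with h
    · rfl
    · exact (hy k (by omega)).symm
  have hp := htr z fun k hk => gamma_sub_aug_eq_zero hcpos (by omega)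
  have hq := htr w fun k hk => gamma_sub_aug_eq_zero he (by omega)
  set p := PowerSeries.trunc A (PowerSeries.mk fun k => gamma k z) with hpdef
  set q := PowerSeries.trunc A (PowerSeries.mk fun k => gamma k w)
  have hpq : p * q = 1 := by
    apply Polynomial.coe_injective K
    rw [Polynomial.coe_mul, hp, hq, ← Lambda.mk_conv, Polynomial.coe_one]
    ext k
    rw [PowerSeries.coeff_mk, PowerSeries.coeff_one]
    show ∑ i ∈ Finset.range (k + 1), gamma i z * gamma (k - i) w = _
    rw [← Lambda.gamma_add', hzw]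
    rcases k with _ | k
    · simp [Lambda.gamma_zero_left]
    · simp [Lambda.gamma_succ_zero]
  have h1 := (Polynomial.coeff_isUnit_isNilpotent_of_isUnit (IsUnit.of_mul_eq_one q hpq)).2 1 one_ne_zero
  have hcoeff : p.coeff 1 = z := by
    rw [hpdef, PowerSeries.coeff_trunc, if_pos (by omega), PowerSeries.coeff_mk, Lambda.gamma_one']
  rw [hcoeff] at h1
  have hN' : IsNilpotent (u ^ (n₀ + 1) - 1) := by
    rw [← mul_geom_sum]
    exact (Commute.all _ _).isNilpotent_mul_right hN
  have h2 : IsNilpotent (u ^ (n₀ + 1) * (a - (P.aug a : K))) := by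
    rw [show u ^ (n₀ + 1) * (a - (P.aug a : K)) = z - (u ^ (n₀ + 1) - 1) * (P.aug a : K) by
      rw [hzdef, hca, hc]; ring]
    exact (Commute.all _ _).isNilpotent_sub h1 ((Commute.all _ _).isNilpotent_mul_right hN')
  have huu : IsUnit u := by
    have := P.isUnit_lam u hline.1
    rwa [hline.2, Int.toNat_one, LambdaOps.lam_one] at this
  exact ((Commute.all _ _).isNilpotent_mul_left_iff (huu.pow _).mem_nonZeroDivisors.1).1 h2

end Alg

section Geom

variable {X : Scheme.{u}} {K : Type v} [CommRing K] [LambdaOps K] {P : PosStructure K} {φ : SGA6.Kvb X →+ K}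

theorem cl_add_one_mem_pos [ConnectedSpace X] (hK : KRR.IsModel X K P φ) {E : X.Modules}
    (hE : FlatMod.IsFinLocFree E) : φ (KRR.cl X E) + 1 ∈ P.pos := by
  have h1 : (1 : K) ∈ P.pos := by simpa using P.natCast_mem 1 one_pos
  obtain ⟨r, hr⟩ := exists_rank_connected hE
  rcases Nat.eq_zero_or_pos r with rfl | h
  · rw [show KRR.cl X E = 0 from K0Sub.clSub_isZero (isZero_of_rank_zero' hr), map_zero, zero_add]
    exact h1
  · exact P.add_mem _ _ ((hK.mem_pos_iff _).2 ⟨r, E, h, hr, rfl⟩) h1

theorem finite_sections_local {E : X.Modules} (hE : FlatMod.IsFinLocFree E) (p : X) :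
    ∃ O : X.Opens, p ∈ O ∧ ∀ W : X.Opens, IsAffineOpen W → W ≤ O → Module.Finite Γ(X, W) Γ(E, W) := by
  obtain ⟨D, m, e, hp, he⟩ := FinCov.exists_frame_nhd hE p
  exact ⟨D, hp, fun W _ hW => Module.Finite.of_basis (he.basis W hW)⟩

/-- High twists of a bundle by an ample invertible module are quotients of finite free modules. -/
theorem exists_epi_twist {L E : X.Modules} (hL : CohB1.IsAmple L) (hE : FlatMod.IsFinLocFree E) :
    ∃ n₀ : ℕ, ∀ n, n₀ ≤ n → FlatMod.IsFinLocFree (CohB1.tensorMod E (CohB1.tensorPow L n)) ∧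
      ∃ (N : ℕ) (p : FlatMod.freeMod X N ⟶ CohB1.tensorMod E (CohB1.tensorPow L n)), Epi p := by
  haveI : CompactSpace X := hL.2.1
  obtain ⟨c, ⟨e⟩⟩ := Ample.exists_cocycle hL.1
  haveI := Euler.isQuasicoherent_of_isFinLocFree hE
  obtain ⟨n₀, h⟩ := c.eventually_isGloballyGenerated E ((c.isAmple_iff e).1 hL).2 (finite_sections_local hE)
  refine ⟨n₀, fun n hn => ?_⟩
  obtain ⟨d⟩ := c.nonempty_tensorPow_iso e n
  obtain ⟨t⟩ := c.nonempty_tensor_modTwist E n
  have hLn : FlatMod.IsFinLocFree (CohB1.tensorPow L n) :=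
    DCoh.isFinLocFree_of_iso d.symm (Euler.isFinLocFree_of_isInvertible (c.isInvertible_of_iso (Iso.refl _)))
  have hT : FlatMod.IsFinLocFree (CohB1.tensorMod E (CohB1.tensorPow L n)) := OX.isFinLocFree_tensor hE hLn
  refine ⟨hT, ?_⟩
  have hgg := Ample.isGloballyGenerated_of_iso
    (((DCoh.tensorBi (X := X)).obj E).mapIso d ≪≫ t).symm (h n hn)
  haveI := Euler.isQuasicoherent_of_isFinLocFree hT
  obtain ⟨ι, s, hs⟩ := CurveMult.spanned_of_isGloballyGenerated hgg
  obtain ⟨N, t', ht'⟩ := Ample.exists_finite_spanned _ (finite_sections_local hT) s hs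
  exact ⟨N, Ample.exists_epi_free _ ht'⟩

theorem cl_freeMod' (hK : KRR.IsModel X K P φ) : ∀ N : ℕ, φ (KRR.cl X (FlatMod.freeMod X N)) = (N : K) :=
  fun N => cl_freeMod hK N

/-- The class of an ample invertible module is an ample line element. -/
theorem isAmpleElt_cl [ConnectedSpace X] (hK : KRR.IsModel X K P φ) {L : X.Modules} (hL : CohB1.IsAmple L) :
    KRR.IsAmpleElt P (φ (KRR.cl X L)) := by
  have hL1 : FlatMod.IsFinLocFreeOfRank 1 L := Euler.isFinLocFreeOfRank_one' hL.1
  have hL' : FlatMod.IsFinLocFree L := FinCov.isFinLocFree_of_rank hL1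
  refine ⟨isLine_cl hK hL1, fun x => ?_⟩
  obtain ⟨A, B, hA, hB, rfl⟩ := exists_bundles hK x
  obtain ⟨n₀, hn₀⟩ := exists_epi_twist hL hB
  refine ⟨n₀, fun n hn => ?_⟩
  obtain ⟨hT, N, p, hp⟩ := hn₀ n hn
  obtain ⟨hLn, hpow⟩ := cl_tensorPow hK hL' n
  have hA' : FlatMod.IsFinLocFree (CohB1.tensorMod A (CohB1.tensorPow L n)) := OX.isFinLocFree_tensor hA hLn
  have hF := OX.isFinLocFree_freeMod X N
  have hk : FlatMod.IsFinLocFree (kernel p) := OX.isFinLocFree_kernel p hF hT
  have hcl : φ (KRR.cl X (kernel p)) + φ (KRR.cl X (CohB1.tensorMod B (CohB1.tensorPow L n))) = (N : K) := by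
    rw [← map_add, ← cl_freeMod' hK N]
    exact congrArg φ (K0Sub.clSub_add (P := KRR.vbP X) (K0Sub.shortExact_kernel p) hk hF hT).symm
  refine ⟨(φ (KRR.cl X (CohB1.tensorMod A (CohB1.tensorPow L n))) + 1) + (φ (KRR.cl X (kernel p)) + 1), N + 2,
    P.add_mem _ _ (cl_add_one_mem_pos hK hA') (cl_add_one_mem_pos hK hk), ?_⟩
  rw [cl_tensor hK hA hLn, hpow]
  rw [cl_tensor hK hB hLn, hpow] at hcl
  push_cast
  linear_combination -hcl

theorem isNilpotent_of_isAmple [ConnectedSpace X] (hK : KRR.IsModel X K P φ) {L : X.Modules}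
    (hL : CohB1.IsAmple L) {x : K} (hx : P.aug x = 0) : IsNilpotent x :=
  isNilpotent_of_isAmpleElt (isAmpleElt_cl hK hL) hx

end Geom

end GrothLib.ModelK
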