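import Groth.Agent.Lib.ModelK.Basic
import Groth.Agent.Lib.ModelK.Rank
import Groth.Agent.Lib.RegSheaf.Twists
import Groth.Agent.Lib.RegSheaf.BaseChange
import Groth.Agent.Lib.Euler.VB

/-!
# `K(P^n_Y)` is free over `K(Y)`
-/

set_option autoImplicit false
set_option backward.isDefEq.respectTransparency false
set_option linter.style.haveILetI false

universe v u

open CategoryTheory CategoryTheory.Limits AlgebraicGeometry LambdaRing Finset
open GrothLib.RegSheaf (coef regP)

noncomputable section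

namespace GrothLib.ModelK

theorem isZero_of_rank_zero' {X : Scheme.{u}} {F : X.Modules} (hF : FlatMod.IsFinLocFreeOfRank 0 F) : IsZero F := by
  refine (IsZero.iff_id_eq_zero F).2 (Scheme.Modules.hom_ext _ _ fun V => AddCommGrpCat.ext fun t => ?_)
  show t = 0
  exact QCoh.section_eq_zero_of_germ F t fun x _ => by
    obtain ⟨D, e, hx, he⟩ := FinCov.exists_frame_nhd_of_rank hF x
    obtain ⟨b⟩ := Euler.stalk_basis_of_frame he hx
    haveI := b.repr.toEquiv.subsingleton
    exact Subsingleton.elim _ _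

/-- The class of `O(d)`. -/
def tw (n : ℕ) (Y : Scheme.{u}) {KP : Type v} [CommRing KP] (φP : SGA6.Kvb (KRR.PY n Y) →+ KP) (d : ℤ) : KP :=
  φP (KRR.cl _ (KRR.twF n Y d (Coh.structureModule (KRR.PY n Y))))

variable {n : ℕ} {Y : Scheme.{u}} [IsNoetherian Y] {KP KY : Type v} [CommRing KP] [LambdaOps KP] [CommRing KY]
  [LambdaOps KY] {PP : PosStructure KP} {PY : PosStructure KY} {φP : SGA6.Kvb (KRR.PY n Y) →+ KP}
  {φY : SGA6.Kvb Y →+ KY} (hKP : KRR.IsModel (KRR.PY n Y) KP PP φP)

include hKP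

theorem tw_mul_cl (d : ℤ) {F : (KRR.PY n Y).Modules} (hF : FlatMod.IsFinLocFree F) :
    φP (KRR.cl _ (KRR.twF n Y d F)) = tw n Y φP d * φP (KRR.cl _ F) := by
  have h1 : φP (KRR.cl _ (KRR.twF n Y d F)) = φP (KRR.cl _ (Twist.twistOver n Y d)) * φP (KRR.cl _ F) :=
    (hKP.map_mul _ _ (RegSheaf.isFinLocFree_twistOver d) hF).symm
  rw [h1]
  exact congrArg (· * _) (cl_congr hKP (RegSheaf.isFinLocFree_twistOver d) (RegSheaf.nonempty_twF_structure d).some.symm)

theorem tw_zero : tw n Y φP 0 = 1 := by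
  rw [← hKP.map_one]
  exact cl_congr hKP (RegSheaf.isFinLocFree_twF RegSheaf.regP_structure.1 _) (RegSheaf.nonempty_twF_zero _).some

theorem tw_add (a b : ℤ) : tw n Y φP (a + b) = tw n Y φP a * tw n Y φP b :=
  ((tw_mul_cl hKP a (RegSheaf.isFinLocFree_twF RegSheaf.regP_structure.1 b)).symm.trans
    (cl_congr hKP (RegSheaf.isFinLocFree_twF (RegSheaf.isFinLocFree_twF RegSheaf.regP_structure.1 b) a)
      (RegSheaf.nonempty_twF_twF rfl _).some)).symm

theorem tw_natCast : ∀ i : ℕ, tw n Y φP (i : ℤ) = tw n Y φP 1 ^ i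
  | 0 => by rw [Nat.cast_zero, pow_zero, tw_zero hKP]
  | i + 1 => by rw [Nat.cast_succ, tw_add hKP, tw_natCast i, pow_succ]

theorem tw_neg_natCast : ∀ i : ℕ, tw n Y φP (-(i : ℤ)) = tw n Y φP (-1) ^ i
  | 0 => by rw [Nat.cast_zero, neg_zero, pow_zero, tw_zero hKP]
  | i + 1 => by rw [Nat.cast_succ, neg_add, tw_add hKP, tw_neg_natCast i, pow_succ]

theorem tw_one_mul_neg : tw n Y φP 1 * tw n Y φP (-1) = 1 := by
  rw [← tw_add hKP, add_neg_cancel, tw_zero hKP]

theorem isLine_tw : PP.IsLine (tw n Y φP 1) :=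
  isLine_cl hKP (OX.isFinLocFreeOfRank_of_iso (RegSheaf.nonempty_twF_structure 1).some.symm
    (Euler.isFinLocFreeOfRank_one' (ProjPic26.isInvertible_twistOver n Y 1)))

theorem one_eq_sum_coef : (1 : KP) = ∑ i ∈ range (n + 1), (coef n i : KP) * tw n Y φP 1 ^ (i + 1) := by
  rw [← hKP.map_one, RegSheaf.vb_relation RegSheaf.regP_structure.1, map_sum]
  refine sum_congr rfl fun i _ => ?_
  rw [map_zsmul, zsmul_eq_mul, ← tw_natCast hKP]
  rfl

/-- The fundamental relation. -/
theorem sub_one_pow_eq_zero : (tw n Y φP 1 - 1) ^ (n + 1) = 0 := by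
  have h : (-tw n Y φP 1 + 1) ^ (n + 1) = 0 := by
    rw [add_pow, sum_range_succ']
    simp only [one_pow, mul_one, pow_zero, Nat.choose_zero_right, Nat.cast_one]
    conv_lhs => arg 2; rw [one_eq_sum_coef hKP]
    rw [← sum_add_distrib]
    refine sum_eq_zero fun i _ => ?_
    rw [neg_pow, pow_succ (-1 : KP)]
    push_cast [coef]
    ring
  rw [show tw n Y φP 1 - 1 = -(-tw n Y φP 1 + 1) by ring, neg_pow, h, mul_zero]

variable (hKY : KRR.IsModel Y KY PY φY) {q : KY →+ KP} (hq : KRR.IsPull (KRR.pr n Y) φY φP q)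
  {g : KP →+ KY} (hg : KRR.IsPushPr n Y φP φY g)

include hKY hg

theorem push_tw (k : ℕ) : g (tw n Y φP ((k : ℤ) - n)) = (k.choose n : KY) :=
  RegSheaf.pushPr_twist_eq_choose hKY hg k

theorem push_tw_neg {i : ℕ} (h1 : 1 ≤ i) (h2 : i ≤ n) : g (tw n Y φP (-(i : ℤ))) = 0 :=
  RegSheaf.pushPr_twist_neg hg (by omega) (by omega)

theorem push_one : g 1 = 1 := by
  rw [← hKP.map_one]
  exact RegSheaf.pushPr_structure hKY hg

include hq

theorem push_mul_q (x : KP) (y : KY) : g (q y * x) = y * g x := by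
  rw [mul_comm, RegSheaf.pushPr_mul_pull hKP hKY hg hq, mul_comm]

omit hg

/-- The map from coordinates. -/
def coord : (Fin (n + 1) → KY) →+ KP where
  toFun a := ∑ i, pullHom hKP hKY hq (a i) * (tw n Y φP 1 - 1) ^ (i : ℕ)
  map_zero' := by simp
  map_add' a b := by simp [add_mul, sum_add_distrib]

theorem q_mul_pow_mem (y : KY) (j : ℕ) : q y * (tw n Y φP 1 - 1) ^ j ∈ (coord hKP hKY hq).range := by
  rcases Nat.lt_or_ge j (n + 1) with hj | hj
  · refine ⟨Pi.single ⟨j, hj⟩ y, ?_⟩
    show ∑ i : Fin (n + 1), pullHom hKP hKY hq _ * _ = _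
    rw [sum_eq_single (⟨j, hj⟩ : Fin (n + 1))]
    · rw [Pi.single_eq_same]; rfl
    · intro i _ hi; rw [Pi.single_eq_of_ne hi, map_zero, zero_mul]
    · simp
  · rw [← Nat.add_sub_cancel' hj, pow_add, sub_one_pow_eq_zero hKP, zero_mul, mul_zero]
    exact zero_mem _

theorem mul_mem_range {x y : KP} (hx : x ∈ (coord hKP hKY hq).range) (hy : y ∈ (coord hKP hKY hq).range) :
    x * y ∈ (coord hKP hKY hq).range := by
  obtain ⟨a, rfl⟩ := hx
  obtain ⟨b, rfl⟩ := hy
  show (∑ i : Fin (n + 1), _) * (∑ j : Fin (n + 1), _) ∈ _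
  rw [sum_mul]
  refine sum_mem fun i _ => ?_
  rw [mul_sum]
  refine sum_mem fun j _ => ?_
  rw [mul_mul_mul_comm, ← map_mul, ← pow_add]
  exact q_mul_pow_mem hKP hKY hq _ _

theorem q_mem (y : KY) : q y ∈ (coord hKP hKY hq).range := by
  simpa using q_mul_pow_mem hKP hKY hq y 0

theorem one_mem_range : (1 : KP) ∈ (coord hKP hKY hq).range := by
  rw [← pull_one hKP hKY hq]
  exact q_mem hKP hKY hq 1

theorem tw_mem : tw n Y φP 1 ∈ (coord hKP hKY hq).range ∧ tw n Y φP (-1) ∈ (coord hKP hKY hq).range := by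
  have h1 : tw n Y φP 1 ∈ (coord hKP hKY hq).range := by
    have := q_mul_pow_mem hKP hKY hq 1 1
    rw [pull_one hKP hKY hq, one_mul, pow_one] at this
    simpa using add_mem this (one_mem_range hKP hKY hq)
  have hp : ∀ i : ℕ, tw n Y φP 1 ^ i ∈ (coord hKP hKY hq).range := fun i => by
    induction i with
    | zero => simpa using one_mem_range hKP hKY hq
    | succ i ih => rw [pow_succ]; exact mul_mem_range hKP hKY hq ih h1
  refine ⟨h1, ?_⟩
  rw [show tw n Y φP (-1) = ∑ i ∈ range (n + 1), coef n i • tw n Y φP 1 ^ i from by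
    conv_lhs => rw [← one_mul (tw n Y φP (-1)), one_eq_sum_coef hKP, sum_mul]
    refine sum_congr rfl fun i _ => ?_
    rw [zsmul_eq_mul, pow_succ, mul_assoc, mul_assoc, tw_one_mul_neg hKP, mul_one]]
  exact sum_mem fun i _ => zsmul_mem (hp i) _

include hg

theorem surjective_coord [ConnectedSpace Y] : (coord hKP hKY hq).range = ⊤ := by
  set linv := tw n Y φP (-1)
  set ℓ := tw n Y φP 1
  have step : ∀ F, regP n Y F → ∃ F₁, regP n Y F₁ ∧
      φP (KRR.cl _ F) = q (g (φP (KRR.cl _ F))) - linv * φP (KRR.cl _ F₁) := by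
    intro F hF
    haveI : F.IsQuasicoherent := (Euler.isCoh_of_isFinLocFree hF.1).1
    haveI := RegSheaf.epi_counit hF.2
    let adj := Scheme.Modules.pullbackPushforwardAdjunction (KRR.pr n Y)
    have hT : FlatMod.IsFinLocFree ((Scheme.Modules.pushforward (KRR.pr n Y)).obj F) := RegSheaf.isFinLocFree_push_reg hF
    have hPT := OX.isFinLocFree_pullback (KRR.pr n Y) hT
    have hZ : FlatMod.IsFinLocFree (kernel (adj.counit.app F)) := OX.isFinLocFree_kernel _ hPT hF.1
    haveI : Epi ((Scheme.Modules.pushforward (KRR.pr n Y)).map (adj.counit.app F)) :=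
      (⟨adj.unit.app ((Scheme.Modules.pushforward (KRR.pr n Y)).obj F), adj.right_triangle_components F⟩ :
        SplitEpi _).epi
    have hS := K0Sub.shortExact_kernel (adj.counit.app F)
    refine ⟨KRR.twF n Y 1 (kernel (adj.counit.app F)), ⟨RegSheaf.isFinLocFree_twF hZ 1,
      @RegSheaf.isRegSheaf_twF_one_X₁ n Y (ShortComplex.mk (kernel.ι (adj.counit.app F)) (adj.counit.app F)
        (kernel.condition _)) hS
        (RegSheaf.isRegSheaf_twF_one_pullback (Euler.isCoh_of_isFinLocFree hT)) hF.2 inferInstance⟩, ?_⟩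
    rw [tw_mul_cl hKP 1 hZ, ← mul_assoc, mul_comm linv, tw_one_mul_neg hKP, one_mul, hg F hF.1 hF.2, hq _ hT,
      ← map_sub]
    refine congrArg φP (eq_sub_of_add_eq' ?_)
    exact (K0Sub.clSub_add (P := KRR.vbP (KRR.PY n Y)) hS hZ hPT hF.1).symm
  -- classes with many vanishing twists
  have claim : ∀ (d j : ℕ), j + d = n + 1 → ∀ F, regP n Y F →
      (∀ s, 1 ≤ s → s ≤ j → g (φP (KRR.cl _ F) * linv ^ s) = 0) →
      φP (KRR.cl _ F) ∈ (coord hKP hKY hq).range := by
    intro d
    induction d with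
    | zero =>
      intro j hj F hF hv
      have h0 : g (φP (KRR.cl _ F)) = 0 := by
        have h := congrArg (fun t => g (φP (KRR.cl _ F) * t)) (congrArg (· * linv ^ (n + 1)) (one_eq_sum_coef (n := n) (Y := Y) hKP))
        simp only [one_mul, sum_mul, mul_sum, map_sum] at h
        rw [hv (n + 1) (by omega) (by omega), sum_range_succ, sum_eq_zero, zero_add, mul_assoc, ← mul_pow,
          tw_one_mul_neg hKP, one_pow, mul_one, mul_comm, ← zsmul_eq_mul, map_zsmul] at h
        · have := congrArg ((-1 : ℤ) ^ n • ·) h.symm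
          simpa [coef, smul_smul, ← mul_pow] using this
        · intro i hi
          have hi' : i < n := mem_range.1 hi
          rw [mul_assoc, show linv ^ (n + 1) = linv ^ (i + 1) * linv ^ (n - i) by rw [← pow_add]; congr 1; omega,
            ← mul_assoc (ℓ ^ (i + 1)), ← mul_pow, tw_one_mul_neg hKP, one_pow, one_mul, mul_left_comm,
            ← zsmul_eq_mul, map_zsmul, hv (n - i) (by omega) (by omega), smul_zero]
      have hT : FlatMod.IsFinLocFree ((Scheme.Modules.pushforward (KRR.pr n Y)).obj F) := RegSheaf.isFinLocFree_push_reg hF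
      obtain ⟨r, hr⟩ := exists_rank_connected hT
      rw [hg F hF.1 hF.2] at h0
      have hr0 := hKY.aug_cl r _ hr
      rw [h0, map_zero] at hr0
      obtain rfl : r = 0 := by exact_mod_cast hr0.symm
      have hz : IsZero ((Scheme.Modules.pushforward (KRR.pr n Y)).obj F) := isZero_of_rank_zero' hr
      haveI : F.IsQuasicoherent := (Euler.isCoh_of_isFinLocFree hF.1).1
      haveI := RegSheaf.epi_counit hF.2
      have hF0 : IsZero F := IsZero.of_epi
        ((Scheme.Modules.pullbackPushforwardAdjunction (KRR.pr n Y)).counit.app F)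
        ((Scheme.Modules.pullback (KRR.pr n Y)).map_isZero hz)
      rw [show KRR.cl _ F = 0 from K0Sub.clSub_isZero hF0, map_zero]
      exact zero_mem _
    | succ d ih =>
      intro j hj F hF hv
      obtain ⟨F₁, hF₁, e⟩ := step F hF
      rw [e]
      refine sub_mem (q_mem hKP hKY hq _) (mul_mem_range hKP hKY hq (tw_mem hKP hKY hq).2 (ih (j + 1) (by omega) F₁ hF₁ ?_))
      intro s hs hs'
      obtain ⟨t, rfl⟩ : ∃ t, s = t + 1 := ⟨s - 1, by omega⟩
      have e1 : φP (KRR.cl _ F₁) * linv ^ (t + 1) = (q (g (φP (KRR.cl _ F))) - φP (KRR.cl _ F)) * linv ^ t := by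
        conv_rhs => rw [show q (g (φP (KRR.cl _ F))) - φP (KRR.cl _ F) = linv * φP (KRR.cl _ F₁) from by
          linear_combination -e]
        rw [pow_succ]; ring
      rw [e1, sub_mul, map_sub, push_mul_q hKP hKY hq hg]
      rcases Nat.eq_zero_or_pos t with rfl | ht
      · rw [pow_zero, mul_one, push_one hKP hKY hg, mul_one, sub_self]
      · rw [hv t ht (by omega), ← tw_neg_natCast hKP, push_tw_neg hKP hKY hg ht (by omega), mul_zero, sub_zero]
  refine top_unique fun x _ => ?_
  obtain ⟨a, rfl⟩ := hKP.bijective.2 x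
  have h := RegSheaf.hom_ext_reg (f := (QuotientAddGroup.mk' (coord hKP hKY hq).range).comp φP) (g := 0) fun F hF => by
    show ((φP (KRR.cl _ F) : KP) : KP ⧸ (coord hKP hKY hq).range) = 0
    exact (QuotientAddGroup.eq_zero_iff _).2 (claim (n + 1) 0 (by omega) F hF fun s h1 h2 => absurd h2 (by omega))
  exact (QuotientAddGroup.eq_zero_iff _).1 (DFunLike.congr_fun h a)

theorem injective_coord : Function.Injective (coord hKP hKY hq) := by
  rw [injective_iff_map_eq_zero]
  intro a ha
  -- pairing with the negative twists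
  have pair : ∀ m : ℕ, m ≤ n → ∀ i : ℕ,
      g ((tw n Y φP 1 - 1) ^ i * tw n Y φP (-(m : ℤ))) =
        ∑ k ∈ range (i + 1), (-1 : KY) ^ (i - k) * (i.choose k : KY) * (((k + n - m).choose n : ℕ) : KY) := by
    intro m hm i
    rw [show tw n Y φP 1 - 1 = tw n Y φP 1 + (-1) by ring, add_pow, sum_mul, map_sum]
    refine sum_congr rfl fun k hk => ?_
    rw [show tw n Y φP 1 ^ k * (-1) ^ (i - k) * (i.choose k : KP) * tw n Y φP (-(m : ℤ)) =
      ((-1 : ℤ) ^ (i - k) * (i.choose k : ℤ)) • tw n Y φP (((k + n - m : ℕ) : ℤ) - n) from by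
        rw [zsmul_eq_mul, show ((k + n - m : ℕ) : ℤ) - n = (k : ℤ) + -(m : ℤ) by omega, tw_add hKP, tw_natCast hKP]
        push_cast; ring,
      map_zsmul, push_tw hKP hKY hg, zsmul_eq_mul]
    push_cast; ring
  have key : ∀ m : Fin (n + 1), ∑ i : Fin (n + 1), a i * (∑ k ∈ range ((i : ℕ) + 1),
      (-1 : KY) ^ ((i : ℕ) - k) * ((i : ℕ).choose k : KY) * (((k + n - m).choose n : ℕ) : KY)) = 0 := fun m => by
    have h : g (coord hKP hKY hq a * tw n Y φP (-((m : ℕ) : ℤ))) = 0 := by rw [ha, zero_mul, map_zero]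
    change g ((∑ i, q (a i) * _) * _) = 0 at h
    rw [sum_mul, map_sum] at h
    rw [← h]
    refine sum_congr rfl fun i _ => ?_
    rw [mul_assoc, push_mul_q hKP hKY hq hg, pair m (Nat.lt_succ_iff.1 m.2)]
  -- the pairing is triangular
  have tri : ∀ (i m : Fin (n + 1)), i.1 ≤ m.1 → (∑ k ∈ range ((i : ℕ) + 1),
      (-1 : KY) ^ ((i : ℕ) - k) * ((i : ℕ).choose k : KY) * (((k + n - m).choose n : ℕ) : KY)) =
        if i = m then 1 else 0 := by
    intro i m him
    rw [sum_eq_single i.1]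
    · by_cases h : i = m
      · subst h; simp
      · have : i.1 + n - m.1 < n := by
          have : i.1 ≠ m.1 := fun e => h (Fin.ext e)
          omega
        simp [Nat.choose_eq_zero_of_lt this, h]
    · intro k hk hki
      have hk' : k + n - m.1 < n := by have := mem_range.1 hk; omega
      simp [Nat.choose_eq_zero_of_lt hk']
    · simp
  funext m
  suffices ∀ (d : ℕ) (m : Fin (n + 1)), n - m.1 < d → a m = 0 from this (n + 1) m (by omega)
  intro d
  induction d with
  | zero => intro m h; omega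
  | succ d ih =>
    intro m hmd
    have h := key m
    rw [sum_eq_single m] at h
    · rwa [tri m m le_rfl, if_pos rfl, mul_one] at h
    · intro i _ him
      rcases le_or_gt i.1 m.1 with h' | h'
      · rw [tri i m h', if_neg him, mul_zero]
      · rw [ih i (by omega), zero_mul]
    · simp

/-- The projective bundle theorem for the trivial bundle. -/
theorem bijective_coord [ConnectedSpace Y] : Function.Bijective (coord hKP hKY hq) :=
  ⟨injective_coord hKP hKY hq hg, AddMonoidHom.range_eq_top.1 (surjective_coord hKP hKY hq hg)⟩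

end GrothLib.ModelK
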