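import Groth.Agent.Lib.ExtPowX.Pullback
import Groth.Agent.Lib.Lambda.Split
import Groth.Agent.Lib.RegSheaf.ProjK
import Groth.Agent.S15827
import Groth.Agent.Lib.OX.OneDegLocus

/-!
# Models of `K(X)`: twisting by line bundles, pull-back
-/

set_option autoImplicit false
set_option backward.isDefEq.respectTransparency false
set_option linter.style.haveILetI false

universe v u

open CategoryTheory AlgebraicGeometry LambdaRing
open GrothLib.Lambda

noncomputable section

namespace GrothLib.ModelK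

variable {X : Scheme.{u}} {K : Type v} [CommRing K] [LambdaOps K] {P : PosStructure K} {φ : SGA6.Kvb X →+ K}
  (hK : KRR.IsModel X K P φ)

include hK

theorem cl_congr {M N : X.Modules} (hM : FlatMod.IsFinLocFree M) (e : M ≅ N) :
    φ (KRR.cl X M) = φ (KRR.cl X N) :=
  congrArg φ (RegSheaf.clSub_iso (fun _ hZ => DCoh.isFinLocFree_of_isZero hZ) e hM (DCoh.isFinLocFree_of_iso e hM))

theorem lam_cl {E : X.Modules} (hE : FlatMod.IsFinLocFree E) (i : ℕ) :
    LambdaOps.lam i (φ (KRR.cl X E)) = φ (KRR.cl X (ExtPowX.wedge E i)) :=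
  hK.map_lam i E _ hE (ExtPowX.isFinLocFree_wedge hE i) (ExtPowX.isExtPow_wedge hE i)

theorem cl_tensor {E F : X.Modules} (hE : FlatMod.IsFinLocFree E) (hF : FlatMod.IsFinLocFree F) :
    φ (KRR.cl X (CohB1.tensorMod E F)) = φ (KRR.cl X E) * φ (KRR.cl X F) :=
  (hK.map_mul E F hE hF).symm

theorem cl_tensorPow {L : X.Modules} (hL : FlatMod.IsFinLocFree L) :
    ∀ k : ℕ, FlatMod.IsFinLocFree (CohB1.tensorPow L k) ∧ φ (KRR.cl X (CohB1.tensorPow L k)) = φ (KRR.cl X L) ^ k
  | 0 => ⟨Euler.isFinLocFree_of_isInvertible Euler.isInvertible_structure, (pow_zero (φ (KRR.cl X L))).symm ▸ hK.map_one⟩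
  | k + 1 => by
    obtain ⟨h1, h2⟩ := cl_tensorPow hL k
    exact ⟨OX.isFinLocFree_tensor h1 hL, (cl_tensor hK h1 hL).trans (by rw [h2, pow_succ])⟩

theorem isLine_cl {L : X.Modules} (hL : FlatMod.IsFinLocFreeOfRank 1 L) : P.IsLine (φ (KRR.cl X L)) :=
  ⟨(hK.mem_pos_iff _).2 ⟨1, L, le_rfl, hL, rfl⟩, hK.aug_cl 1 L hL⟩

theorem lam_mul_cl_line {E L : X.Modules} (hE : FlatMod.IsFinLocFree E) (hL : FlatMod.IsFinLocFreeOfRank 1 L)
    (i : ℕ) : LambdaOps.lam i (φ (KRR.cl X L) * φ (KRR.cl X E)) =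
      φ (KRR.cl X L) ^ i * LambdaOps.lam i (φ (KRR.cl X E)) := by
  have hL' : FlatMod.IsFinLocFree L := FinCov.isFinLocFree_of_rank hL
  obtain ⟨e⟩ := Groth.Agent.S15827.result E L hE hL i _ _
    (ExtPowX.isExtPow_wedge (OX.isFinLocFree_tensor hE hL') i) (ExtPowX.isExtPow_wedge hE i)
  obtain ⟨h1, h2⟩ := cl_tensorPow hK hL' i
  rw [mul_comm, ← cl_tensor hK hE hL', lam_cl hK (E := CohB1.tensorMod E L) (OX.isFinLocFree_tensor hE hL'),
    show φ (KRR.cl X (ExtPowX.wedge (CohB1.tensorMod E L) i)) = _ from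
      cl_congr hK (ExtPowX.isFinLocFree_wedge (OX.isFinLocFree_tensor hE hL') i) e,
    cl_tensor hK (ExtPowX.isFinLocFree_wedge hE i) h1, h2, ← lam_cl hK hE, mul_comm]

theorem exists_bundles (x : K) : ∃ E F : X.Modules, FlatMod.IsFinLocFree E ∧ FlatMod.IsFinLocFree F ∧
    x = φ (KRR.cl X E) - φ (KRR.cl X F) := by
  obtain ⟨e, f, he, hf, rfl⟩ := P.exists_sub x
  obtain ⟨m, E, -, hE, rfl⟩ := (hK.mem_pos_iff e).1 he
  obtain ⟨n, F, -, hF, rfl⟩ := (hK.mem_pos_iff f).1 hf
  exact ⟨E, F, FinCov.isFinLocFree_of_rank hE, FinCov.isFinLocFree_of_rank hF, rfl⟩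

/-- Twisting by a line bundle. -/
theorem lam_line_mul {L : X.Modules} (hL : FlatMod.IsFinLocFreeOfRank 1 L) (x : K) (i : ℕ) :
    LambdaOps.lam i (φ (KRR.cl X L) * x) = φ (KRR.cl X L) ^ i * LambdaOps.lam i x := by
  set a := φ (KRR.cl X L) with ha
  obtain ⟨E, F, hE, hF, rfl⟩ := exists_bundles hK x
  have key : ∀ G : X.Modules, FlatMod.IsFinLocFree G →
      lamSeries (a * φ (KRR.cl X G)) = PowerSeries.rescale a (lamSeries (φ (KRR.cl X G))) := fun G hG => by
    ext k
    rw [PowerSeries.coeff_rescale, lamSeries, lamSeries, PowerSeries.coeff_mk, PowerSeries.coeff_mk]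
    exact lam_mul_cl_line hK hG hL k
  have h : lamSeries (a * (φ (KRR.cl X E) - φ (KRR.cl X F))) =
      PowerSeries.rescale a (lamSeries (φ (KRR.cl X E) - φ (KRR.cl X F))) := by
    refine (isUnit_lamSeries (a * φ (KRR.cl X F))).mul_right_cancel ?_
    rw [← lamSeries_add, ← mul_add, sub_add_cancel, key E hE, key F hF, ← map_mul, ← lamSeries_add, sub_add_cancel]
  have := congrArg (PowerSeries.coeff i) h
  rwa [PowerSeries.coeff_rescale, lamSeries, lamSeries, PowerSeries.coeff_mk, PowerSeries.coeff_mk] at this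

variable {Y : Scheme.{u}} {KY : Type v} [CommRing KY] [LambdaOps KY] {PY : PosStructure KY}
  {φY : SGA6.Kvb Y →+ KY} (hKY : KRR.IsModel Y KY PY φY) {f : X ⟶ Y} {q : KY →+ K} (hq : KRR.IsPull f φY φ q)

include hKY hq

theorem pull_mul (a b : KY) : q (a * b) = q a * q b := by
  obtain ⟨E, F, hE, hF, rfl⟩ := exists_bundles hKY a
  obtain ⟨E', F', hE', hF', rfl⟩ := exists_bundles hKY b
  have key : ∀ G G' : Y.Modules, FlatMod.IsFinLocFree G → FlatMod.IsFinLocFree G' →
      q (φY (KRR.cl Y G) * φY (KRR.cl Y G')) = q (φY (KRR.cl Y G)) * q (φY (KRR.cl Y G')) := fun G G' hG hG' => by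
    rw [hKY.map_mul G G' hG hG', hq _ (OX.isFinLocFree_tensor hG hG'), hq G hG, hq G' hG',
      ← cl_tensor hK (OX.isFinLocFree_pullback f hG) (OX.isFinLocFree_pullback f hG')]
    exact cl_congr hK (OX.isFinLocFree_pullback f (OX.isFinLocFree_tensor hG hG')) (OX.pullTensorIso f G G')
  simp only [sub_mul, mul_sub, map_sub, key _ _ hE hE', key _ _ hE hF', key _ _ hF hE', key _ _ hF hF']

theorem pull_one : q 1 = 1 := by
  rw [← hKY.map_one, hq _ (Euler.isFinLocFree_of_isInvertible Euler.isInvertible_structure), ← hK.map_one]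
  exact cl_congr hK (OX.isFinLocFree_pullback f (Euler.isFinLocFree_of_isInvertible Euler.isInvertible_structure))
    (OX.pullUnitIso f)

/-- Pull-back as a ring map. -/
def pullHom : KY →+* K where
  toFun := q
  map_one' := pull_one hK hKY hq
  map_mul' := pull_mul hK hKY hq
  map_zero' := map_zero q
  map_add' := map_add q

theorem isLambdaHom_pull : IsLambdaHom (pullHom hK hKY hq) := by
  intro i x
  obtain ⟨E, F, hE, hF, rfl⟩ := exists_bundles hKY x
  have key : ∀ G : Y.Modules, FlatMod.IsFinLocFree G → PowerSeries.map (pullHom hK hKY hq)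
      (lamSeries (φY (KRR.cl Y G))) = lamSeries (q (φY (KRR.cl Y G))) := fun G hG => by
    ext k
    rw [PowerSeries.coeff_map, lamSeries, lamSeries, PowerSeries.coeff_mk, PowerSeries.coeff_mk, lam_cl hKY hG]
    show q _ = _
    rw [hq _ (ExtPowX.isFinLocFree_wedge hG k), hq G hG]
    exact (hK.map_lam k _ _ (OX.isFinLocFree_pullback f hG) (OX.isFinLocFree_pullback f (ExtPowX.isFinLocFree_wedge hG k))
      (ExtPowX.isExtPow_pullback f hG (ExtPowX.isExtPow_wedge hG k))).symm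
  have h : PowerSeries.map (pullHom hK hKY hq) (lamSeries (φY (KRR.cl Y E) - φY (KRR.cl Y F))) =
      lamSeries (q (φY (KRR.cl Y E) - φY (KRR.cl Y F))) := by
    refine (isUnit_lamSeries (q (φY (KRR.cl Y F)))).mul_right_cancel ?_
    rw [← lamSeries_add, ← map_add, sub_add_cancel]
    nth_rewrite 1 [← key F hF]
    rw [← map_mul, ← lamSeries_add, sub_add_cancel, key E hE]
  have := congrArg (PowerSeries.coeff i) h
  rwa [PowerSeries.coeff_map, lamSeries, lamSeries, PowerSeries.coeff_mk, PowerSeries.coeff_mk] at this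

theorem aug_pull (x : KY) : P.aug (q x) = PY.aug x := by
  obtain ⟨e, g, he, hg, rfl⟩ := PY.exists_sub x
  obtain ⟨m, E, -, hE, rfl⟩ := (hKY.mem_pos_iff e).1 he
  obtain ⟨n, F, -, hF, rfl⟩ := (hKY.mem_pos_iff g).1 hg
  rw [map_sub, map_sub, map_sub, hq E (FinCov.isFinLocFree_of_rank hE), hq F (FinCov.isFinLocFree_of_rank hF),
    hK.aug_cl m _ (OX.isFinLocFreeOfRank_pullback f hE), hK.aug_cl n _ (OX.isFinLocFreeOfRank_pullback f hF),
    hKY.aug_cl m E hE, hKY.aug_cl n F hF]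

end GrothLib.ModelK
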