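import Groth.Agent.Lib.ModelK.PBT
import Groth.Agent.Lib.Lambda.Eigen
import Groth.Agent.Lib.K0Sub.Pullback

/-!
# The γ-filtration of `K(P^n_Y)`
-/

set_option autoImplicit false
set_option backward.isDefEq.respectTransparency false
set_option linter.style.haveILetI false

universe v u

open CategoryTheory CategoryTheory.Limits AlgebraicGeometry LambdaRing Finset
open GrothLib.Lambda

noncomputable section

namespace GrothLib.ModelK

section Filtration

variable {K : Type v} [CommRing K] [LambdaOps K] {P : PosStructure K}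

theorem gamma_mem {c : K} (hc : P.aug c = 0) (r : ℕ) : gamma r c ∈ gammaFiltration P r := by
  rcases Nat.eq_zero_or_pos r with rfl | hr
  · simp [gammaFiltration]
  rw [gammaFiltration, if_neg (by omega)]
  exact AddSubgroup.subset_closure ⟨[(r, c)], by simpa using hc, by simp, by simp⟩

theorem mul_mem {a b : ℕ} {x y : K} (hx : x ∈ gammaFiltration P a) (hy : y ∈ gammaFiltration P b) :
    x * y ∈ gammaFiltration P (a + b) := by
  rw [mem_gammaFiltration_iff] at hx hy ⊢
  exact mul_mem_gammaFil hx hy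

/-- `γ^(k+1)` of a product with a line element. -/
theorem gamma_line_mul {v c : K} (h : ∀ i, LambdaOps.lam i (v * c) = v ^ i * LambdaOps.lam i c) (k : ℕ) :
    gamma (k + 1) (v * c) =
      ∑ l ∈ range (k + 1), gamma (l + 1) c * ((k.choose l : K) * (v ^ (l + 1) * (1 - v) ^ (k - l))) := by
  simp only [gamma_eq, gammaOf_succ, lamSeq, h, sum_mul]
  rw [sum_comm' (t' := range (k + 1)) (s' := fun j => Icc j k)
    (h := fun l j => by simp only [mem_range, mem_Icc]; omega)]
  refine sum_congr rfl fun j hj => ?_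
  have hjk : j ≤ k := Nat.lt_succ_iff.1 (mem_range.1 hj)
  have h2 : ∑ l ∈ Icc j k, ((k - j).choose (l - j) : K) * (v ^ (l - j) * (1 - v) ^ (k - l)) = 1 := by
    rw [show Icc j k = (range (k - j + 1)).map (addLeftEmbedding j) by
      ext l; simp only [mem_Icc, mem_map, mem_range, addLeftEmbedding_apply]
      exact ⟨fun hl => ⟨l - j, by omega, by omega⟩, by rintro ⟨m, hm, rfl⟩; omega⟩, sum_map]
    have e := add_pow v (1 - v) (k - j)
    rw [add_sub_cancel, one_pow] at e
    refine Eq.trans (sum_congr rfl fun m hm => ?_) e.symm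
    simp only [addLeftEmbedding_apply, Nat.add_sub_cancel_left, Nat.sub_add_eq]
    ring
  conv_lhs => rw [← mul_one ((k.choose j : K) * (v ^ (j + 1) * LambdaOps.lam (j + 1) c)), ← h2, mul_sum]
  refine sum_congr rfl fun l hl => ?_
  obtain ⟨h3, h4⟩ := mem_Icc.1 hl
  rw [show l + 1 = (j + 1) + (l - j) by omega, pow_add]
  have e : ((k.choose l : K)) * (l.choose j : K) = (k.choose j : K) * ((k - j).choose (l - j) : K) := by
    rw [← Nat.cast_mul, ← Nat.cast_mul, Nat.choose_mul (n := k) h3]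
  linear_combination (v ^ (j + 1) * v ^ (l - j) * (1 - v) ^ (k - l) * LambdaOps.lam (j + 1) c) * (-e)

end Filtration

variable {n : ℕ} {Y : Scheme.{u}} [IsNoetherian Y] {KP KY : Type v} [CommRing KP] [LambdaOps KP] [CommRing KY]
  [LambdaOps KY] {PP : PosStructure KP} {PY : PosStructure KY} {φP : SGA6.Kvb (KRR.PY n Y) →+ KP}
  {φY : SGA6.Kvb Y →+ KY} (hKP : KRR.IsModel (KRR.PY n Y) KP PP φP) (hKY : KRR.IsModel Y KY PY φY)
  {q : KY →+ KP} (hq : KRR.IsPull (KRR.pr n Y) φY φP q)
  {g : KP →+ KY} (hg : KRR.IsPushPr n Y φP φY g)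

omit [LambdaOps KP] [LambdaOps KY] in
theorem exists_pushPr (hb : Function.Bijective φP) :
    ∃ g : KP →+ KY, KRR.IsPushPr n Y φP φY g := by
  obtain ⟨P, hP⟩ := RegSheaf.exists_pushK (n := n) (Y := Y)
  refine ⟨φY.comp (P.comp (AddEquiv.ofBijective φP hb).symm.toAddMonoidHom), fun F hF hr => ?_⟩
  show φY (P ((AddEquiv.ofBijective φP hb).symm (φP (KRR.cl _ F)))) = _
  rw [show φP (KRR.cl _ F) = AddEquiv.ofBijective φP hb (KRR.cl _ F) from rfl, AddEquiv.symm_apply_apply,
    hP F ⟨hF, hr⟩]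

omit [AlgebraicGeometry.IsNoetherian Y] [LambdaOps KP] [LambdaOps KY] in
theorem exists_pull (hb : Function.Bijective φY) :
    ∃ q : KY →+ KP, KRR.IsPull (KRR.pr n Y) φY φP q := by
  obtain ⟨ψ, hψ⟩ := K0Sub.exists_pull (KRR.pr n Y)
  refine ⟨φP.comp (ψ.comp (AddEquiv.ofBijective φY hb).symm.toAddMonoidHom), fun E hE => ?_⟩
  show φP (ψ ((AddEquiv.ofBijective φY hb).symm (φY (KRR.cl _ E)))) = _
  rw [show φY (KRR.cl _ E) = AddEquiv.ofBijective φY hb (KRR.cl _ E) from rfl, AddEquiv.symm_apply_apply, hψ E hE]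

/-- The filtration transported from the coordinates. -/
def G (k : ℕ) : AddSubgroup KP where
  carrier := {x | ∃ a : Fin (n + 1) → KY, (∀ i : Fin (n + 1), a i ∈ gammaFiltration PY (k - i)) ∧ coord hKP hKY hq a = x}
  zero_mem' := ⟨0, fun i => zero_mem _, map_zero _⟩
  add_mem' := by
    rintro _ _ ⟨a, ha, rfl⟩ ⟨b, hb, rfl⟩
    exact ⟨a + b, fun i => add_mem (ha i) (hb i), map_add _ a b⟩
  neg_mem' := by
    rintro _ ⟨a, ha, rfl⟩
    exact ⟨-a, fun i => neg_mem (ha i), map_neg _ a⟩

include hKP hKY hq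

local notation "w" => tw n Y φP 1 - 1

theorem q_mul_pow_mem_G {y : KY} {i k : ℕ} (hy : y ∈ gammaFiltration PY (k - i)) :
    q y * w ^ i ∈ G hKP hKY hq k := by
  rcases Nat.lt_or_ge i (n + 1) with hi | hi
  · refine ⟨Pi.single ⟨i, hi⟩ y, fun j => ?_, ?_⟩
    · rcases eq_or_ne j ⟨i, hi⟩ with rfl | hj
      · rwa [Pi.single_eq_same]
      · rw [Pi.single_eq_of_ne hj]; exact zero_mem _
    · show ∑ j : Fin (n + 1), pullHom hKP hKY hq _ * _ = _
      rw [sum_eq_single (⟨i, hi⟩ : Fin (n + 1))]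
      · rw [Pi.single_eq_same]; rfl
      · intro j _ hj; rw [Pi.single_eq_of_ne hj, map_zero, zero_mul]
      · simp
  · rw [← Nat.add_sub_cancel' hi, pow_add, sub_one_pow_eq_zero hKP, zero_mul, mul_zero]
    exact zero_mem _

theorem q_mem_G {y : KY} {k : ℕ} (hy : y ∈ gammaFiltration PY k) : q y ∈ G hKP hKY hq k := by
  simpa using q_mul_pow_mem_G hKP hKY hq (y := y) (i := 0) (k := k) hy

theorem mul_mem_G {a b : ℕ} {x y : KP} (hx : x ∈ G hKP hKY hq a) (hy : y ∈ G hKP hKY hq b) :
    x * y ∈ G hKP hKY hq (a + b) := by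
  obtain ⟨α, hα, rfl⟩ := hx
  obtain ⟨β, hβ, rfl⟩ := hy
  show (∑ i : Fin (n + 1), _) * (∑ j : Fin (n + 1), _) ∈ _
  rw [sum_mul]
  refine sum_mem fun i _ => ?_
  rw [mul_sum]
  refine sum_mem fun j _ => ?_
  rw [mul_mul_mul_comm, ← map_mul, ← pow_add]
  exact q_mul_pow_mem_G hKP hKY hq (gammaFiltration_antitone (by omega) (mul_mem (hα i) (hβ j)))

theorem G_antitone {a b : ℕ} (h : a ≤ b) : G hKP hKY hq b ≤ G hKP hKY hq a := by
  rintro _ ⟨α, hα, rfl⟩
  exact ⟨α, fun i => gammaFiltration_antitone (by omega) (hα i), rfl⟩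

theorem aug_tw : PP.aug (tw n Y φP 1) = 1 := (isLine_tw hKP).2

/-- Elements all of whose `γ^k` lie in `G k`. -/
def goodGamma : AddSubgroup KP where
  carrier := {x | ∀ k, gamma k x ∈ G hKP hKY hq k}
  zero_mem' k := by
    rcases k with _ | k
    · rw [gamma_zero_left, ← pull_one hKP hKY hq]
      exact q_mem_G hKP hKY hq (by simp [gammaFiltration])
    · rw [gamma_succ_zero]; exact zero_mem _
  add_mem' := by
    intro x y hx hy k
    rw [gamma_add']
    refine sum_mem fun i hi => ?_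
    have := mul_mem_G hKP hKY hq (hx i) (hy (k - i))
    rwa [Nat.add_sub_cancel' (Nat.lt_succ_iff.1 (mem_range.1 hi))] at this
  neg_mem' := by
    intro x hx k
    induction k using Nat.strong_induction_on with
    | _ k ih =>
      rcases k with _ | k
      · rw [gamma_zero_left, ← pull_one hKP hKY hq]
        exact q_mem_G hKP hKY hq (by simp [gammaFiltration])
      · rw [gamma_neg_succ]
        refine neg_mem (sum_mem fun i hi => ?_)
        have := mul_mem_G hKP hKY hq (ih i (mem_range.1 hi)) (hx (k + 1 - i))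
        rwa [Nat.add_sub_cancel' (mem_range.1 hi).le] at this

theorem q_mem_good {c : KY} (hc : PY.aug c = 0) : q c ∈ goodGamma hKP hKY hq := fun k => by
  have e : gamma k (q c) = q (gamma k c) :=
    ((show Commutes (pullHom hKP hKY hq) from fun i x => isLambdaHom_pull hKP hKY hq i x).gamma k c).symm
  rw [e]
  exact q_mem_G hKP hKY hq (gamma_mem hc k)

include hg

theorem G_zero [ConnectedSpace Y] (x : KP) : x ∈ G hKP hKY hq 0 := by
  obtain ⟨a, rfl⟩ := (bijective_coord hKP hKY hq hg).2 x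
  exact ⟨a, fun i => by simp [gammaFiltration], rfl⟩

theorem tw_pow_sub_one_mem [ConnectedSpace Y] (m : ℕ) : tw n Y φP 1 ^ m - 1 ∈ G hKP hKY hq 1 := by
  rw [← geom_sum_mul, mul_comm]
  refine mul_mem_G hKP hKY hq (b := 0) ?_ (G_zero hKP hKY hq hg _)
  simpa [pull_one hKP hKY hq] using
    q_mul_pow_mem_G hKP hKY hq (y := 1) (i := 1) (k := 1) (by simp [gammaFiltration])

theorem pow_one_sub_mem [ConnectedSpace Y] {x : KP} (hx : x ∈ G hKP hKY hq 1) :
    ∀ d : ℕ, x ^ d ∈ G hKP hKY hq d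
  | 0 => G_zero hKP hKY hq hg _
  | d + 1 => by rw [pow_succ]; exact mul_mem_G hKP hKY hq (pow_one_sub_mem hx d) hx

theorem line_sub_one_mem_good [ConnectedSpace Y] (m : ℕ) : tw n Y φP 1 ^ m - 1 ∈ goodGamma hKP hKY hq := by
  intro k
  have hline : PP.IsLine (tw n Y φP 1 ^ m) := by
    induction m with
    | zero => rw [pow_zero]; exact isLine_one PP
    | succ m ih => rw [pow_succ]; exact IsLine.mul ih (isLine_tw hKP)
  rw [gamma_line_sub_one (lam_one_eq_zero_of_pos PP) (fun j hj => lam_line_eq_zero hline hj)]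
  match k with
  | 0 => exact G_zero hKP hKY hq hg _
  | 1 => exact tw_pow_sub_one_mem hKP hKY hq hg m
  | k + 2 => exact zero_mem _

theorem q_mul_line_mem_good [ConnectedSpace Y] {c : KY} (hc : PY.aug c = 0) (m : ℕ) :
    tw n Y φP 1 ^ m * q c ∈ goodGamma hKP hKY hq := by
  intro k
  match k with
  | 0 => exact G_zero hKP hKY hq hg _
  | k + 1 =>
    have hlam : ∀ (m : ℕ) (x : KP) (i : ℕ), LambdaOps.lam i (tw n Y φP 1 ^ m * x) =
        (tw n Y φP 1 ^ m) ^ i * LambdaOps.lam i x := by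
      intro m
      induction m with
      | zero => intro x i; simp
      | succ m ih =>
        intro x i
        rw [pow_succ, mul_assoc, ih, tw, lam_line_mul hKP (OX.isFinLocFreeOfRank_of_iso
          (RegSheaf.nonempty_twF_structure 1).some.symm
          (Euler.isFinLocFreeOfRank_one' (ProjPic26.isInvertible_twistOver n Y 1)))]
        rw [mul_pow, mul_assoc]
    rw [gamma_line_mul (hlam m (q c))]
    refine sum_mem fun l hl => ?_
    have hl' : l ≤ k := Nat.lt_succ_iff.1 (mem_range.1 hl)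
    have h1 : (1 - tw n Y φP 1 ^ m) ^ (k - l) ∈ G hKP hKY hq (k - l) :=
      pow_one_sub_mem hKP hKY hq hg (by simpa using neg_mem (tw_pow_sub_one_mem hKP hKY hq hg m)) _
    have h2 := mul_mem_G hKP hKY hq (q_mem_good hKP hKY hq hc (l + 1))
      (mul_mem_G hKP hKY hq (G_zero hKP hKY hq hg (k.choose l : KP))
        (mul_mem_G hKP hKY hq (G_zero hKP hKY hq hg ((tw n Y φP 1 ^ m) ^ (l + 1))) h1))
    rwa [show l + 1 + (0 + (0 + (k - l))) = k + 1 by omega] at h2

theorem mem_good [ConnectedSpace Y] {x : KP} (hx : PP.aug x = 0) : x ∈ goodGamma hKP hKY hq := by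
  obtain ⟨a, rfl⟩ := (bijective_coord hKP hKY hq hg).2 x
  have hpos : ∀ i : Fin (n + 1), i ≠ 0 → pullHom hKP hKY hq (a i) * w ^ (i : ℕ) ∈ goodGamma hKP hKY hq := by
    intro i hi
    have hi' : (i : ℕ) ≠ 0 := fun h => hi (Fin.ext h)
    have hsum : ∀ y : KP, y * w ^ (i : ℕ) = ∑ m ∈ range ((i : ℕ) + 1),
        (((-1) ^ ((i : ℕ) - m) * (i : ℕ).choose m : ℤ)) • (y * (tw n Y φP 1 ^ m - 1)) := by
      intro y
      have h0 := (Commute.all (1 : KP) (-1)).add_pow (i : ℕ)
      rw [add_neg_cancel, zero_pow hi'] at h0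
      rw [sub_eq_add_neg, add_pow, ← sub_zero (∑ m ∈ _, _), ]
      conv_lhs => arg 2; arg 2; rw [h0]
      rw [← sum_sub_distrib, mul_sum]
      refine sum_congr rfl fun m _ => ?_
      rw [zsmul_eq_mul]; push_cast; ring
    rw [hsum]
    refine sum_mem fun m _ => zsmul_mem ?_ _
    have e : pullHom hKP hKY hq (a i) * (tw n Y φP 1 ^ m - 1) =
        (tw n Y φP 1 ^ m * q (a i - (PY.aug (a i) : KY)) - q (a i - (PY.aug (a i) : KY))) +
          PY.aug (a i) • (tw n Y φP 1 ^ m - 1) := by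
      rw [show q (a i - (PY.aug (a i) : KY)) = pullHom hKP hKY hq (a i - (PY.aug (a i) : KY)) from rfl,
        map_sub, map_intCast, zsmul_eq_mul]
      ring
    rw [e]
    exact add_mem (sub_mem (q_mul_line_mem_good hKP hKY hq hg (by simp) m) (q_mem_good hKP hKY hq (by simp)))
      (zsmul_mem (line_sub_one_mem_good hKP hKY hq hg m) _)
  have e : coord hKP hKY hq a = pullHom hKP hKY hq (a 0) +
      ∑ i ∈ (univ : Finset (Fin (n + 1))).erase 0, pullHom hKP hKY hq (a i) * w ^ (i : ℕ) := by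
    rw [show pullHom hKP hKY hq (a 0) = pullHom hKP hKY hq (a 0) * w ^ ((0 : Fin (n + 1)) : ℕ) by simp]
    exact (add_sum_erase _ (fun i : Fin (n + 1) => pullHom hKP hKY hq (a i) * w ^ (i : ℕ)) (mem_univ 0)).symm
  have h0 : PY.aug (a 0) = 0 := by
    rw [e, map_add, map_sum, sum_eq_zero, add_zero] at hx
    · rwa [show pullHom hKP hKY hq (a 0) = q (a 0) from rfl, aug_pull hKP hKY hq] at hx
    · intro i hi
      rw [map_mul, map_pow, map_sub, aug_tw hKP hKY hq, map_one, sub_self,
        zero_pow (fun h => (mem_erase.1 hi).1 (Fin.ext h)), mul_zero]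
  rw [e]
  exact add_mem (q_mem_good hKP hKY hq h0) (sum_mem fun i hi => hpos i (mem_erase.1 hi).1)

theorem gammaFiltration_le_G [ConnectedSpace Y] (k : ℕ) : gammaFiltration PP k ≤ G hKP hKY hq k := by
  rcases Nat.eq_zero_or_pos k with rfl | hk
  · exact fun x _ => G_zero hKP hKY hq hg x
  rw [gammaFiltration, if_neg (by omega), AddSubgroup.closure_le]
  rintro _ ⟨l, hl, hle, rfl⟩
  refine G_antitone hKP hKY hq hle ?_
  clear hle
  induction l with
  | nil => exact G_zero hKP hKY hq hg _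
  | cons p l ih =>
    rw [List.forall_mem_cons] at hl
    simp only [List.map_cons, List.sum_cons, List.prod_cons]
    exact mul_mem_G hKP hKY hq (mem_good hKP hKY hq hg hl.1 p.1) (ih hl.2)

omit hg in
theorem pull_mem_gammaFiltration {y : KY} {k : ℕ} (hy : y ∈ gammaFiltration PY k) :
    q y ∈ gammaFiltration PP k := by
  rcases Nat.eq_zero_or_pos k with rfl | hk
  · simp [gammaFiltration]
  rw [gammaFiltration, if_neg (by omega)] at hy ⊢
  refine (AddSubgroup.closure_le (K := (AddSubgroup.closure _).comap q)).2 ?_ hy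
  rintro _ ⟨l, hl, hle, rfl⟩
  have hc : Commutes (pullHom hKP hKY hq) := fun i x => isLambdaHom_pull hKP hKY hq i x
  refine AddSubgroup.subset_closure ⟨l.map fun p => (p.1, q p.2), ?_, ?_, ?_⟩
  · simp only [List.mem_map]
    rintro _ ⟨p, hp, rfl⟩
    rw [aug_pull hKP hKY hq]; exact hl p hp
  · simpa [List.map_map, Function.comp_def] using hle
  · show pullHom hKP hKY hq _ = _
    rw [map_list_prod, List.map_map, List.map_map]
    exact congrArg List.prod (List.map_congr_left fun p _ => hc.gamma p.1 p.2)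

theorem comap_pull [ConnectedSpace Y] (k : ℕ) : (gammaFiltration PP k).comap q = gammaFiltration PY k := by
  refine le_antisymm (fun y hy => ?_) fun y hy => pull_mem_gammaFiltration hKP hKY hq hy
  obtain ⟨a, ha, e⟩ := gammaFiltration_le_G hKP hKY hq hg k hy
  have : a = Pi.single 0 y := by
    refine injective_coord hKP hKY hq hg (e.trans ?_)
    show _ = ∑ i : Fin (n + 1), pullHom hKP hKY hq _ * _
    rw [sum_eq_single (0 : Fin (n + 1))]
    · rw [Pi.single_eq_same]; simp [pullHom]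
    · intro j _ hj; rw [Pi.single_eq_of_ne hj, map_zero, zero_mul]
    · simp
  simpa [this] using ha 0

theorem push_mem [ConnectedSpace Y] {k : ℕ} {x : KP} (hx : x ∈ gammaFiltration PP k) :
    g x ∈ gammaFiltration PY (k - n) := by
  obtain ⟨a, ha, rfl⟩ := gammaFiltration_le_G hKP hKY hq hg k hx
  show g (∑ i : Fin (n + 1), q (a i) * _) ∈ _
  rw [map_sum]
  refine sum_mem fun i _ => ?_
  rw [push_mul_q hKP hKY hq hg]
  have h := gammaFiltration_antitone (show k - n ≤ k - (i : ℕ) by omega) (ha i)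
  rw [mem_gammaFiltration_iff] at h ⊢
  exact Ideal.mul_mem_right _ _ h

end GrothLib.ModelK
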